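/-
Criteria for strongly embedded subgroups.
-/
import Cfsg.Prelude.Def_Involutions
import Cfsg.Agent.Lib.Involutions.Isolated
import Mathlib.GroupTheory.Nilpotent

namespace CfsgLib.Involutions

variable {G : Type*} [Group G]

theorem mem_map_conj {H : Subgroup G} {g x : G} :
    x ∈ H.map (MulAut.conj g).toMonoidHom ↔ g⁻¹ * x * g ∈ H := by
  constructor
  · rintro ⟨y, hy, rfl⟩
    show g⁻¹ * (g * y * g⁻¹) * g ∈ H
    rwa [show g⁻¹ * (g * y * g⁻¹) * g = y by group]
  · exact fun h => ⟨_, h, by show g * (g⁻¹ * x * g) * g⁻¹ = x; group⟩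

theorem mem_of_conj_mem_of_stronglyEmbedded [Finite G] {H : Subgroup G}
    (hH : Cfsg.IsStronglyEmbedded H) {t g : G} (ht : t ∈ H) (ht2 : orderOf t = 2)
    (hg : g * t * g⁻¹ ∈ H) : g ∈ H := by
  by_contra h
  have hmem : g * t * g⁻¹ ∈ H ⊓ H.map (MulAut.conj g).toMonoidHom :=
    Subgroup.mem_inf.2 ⟨hg, ⟨t, ht, rfl⟩⟩
  have hd := Subgroup.orderOf_dvd_natCard _ hmem
  rw [orderOf_conj, ht2] at hd
  exact Nat.not_even_iff_odd.2 (hH.2.2 g h) (even_iff_two_dvd.2 hd)

theorem isStronglyEmbedded_iff_conj [Finite G] {H : Subgroup G} (hH : H ≠ ⊤)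
    (heven : Even (Nat.card H)) :
    Cfsg.IsStronglyEmbedded H ↔
      ∀ t ∈ H, orderOf t = 2 → ∀ g : G, g * t * g⁻¹ ∈ H → g ∈ H := by
  refine ⟨fun h t ht ht2 g hg => mem_of_conj_mem_of_stronglyEmbedded h ht ht2 hg,
    fun h => ⟨hH, heven, fun g hg => ?_⟩⟩
  refine Nat.not_even_iff_odd.1 fun he => hg ?_
  obtain ⟨⟨s, hs⟩, hs2⟩ := exists_prime_orderOf_dvd_card'
    (G := ↥(H ⊓ H.map (MulAut.conj g).toMonoidHom)) 2 he.two_dvd
  obtain ⟨hs1, hs'⟩ := Subgroup.mem_inf.1 hs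
  rw [mem_map_conj] at hs'
  have hs2' : orderOf s = 2 := by
    rw [← hs2]; exact (Subgroup.orderOf_mk s hs).symm
  refine h _ hs' ?_ g (by rwa [show g * (g⁻¹ * s * g) * g⁻¹ = s by group])
  have := orderOf_conj g⁻¹ s
  rw [inv_inv] at this
  rw [this, hs2']

theorem centralizer_le_of_stronglyEmbedded [Finite G] {H : Subgroup G}
    (hH : Cfsg.IsStronglyEmbedded H) {t : G} (ht : t ∈ H) (ht2 : orderOf t = 2) :
    Subgroup.centralizer ({t} : Set G) ≤ H := fun g hg =>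
  mem_of_conj_mem_of_stronglyEmbedded hH ht ht2
    (by rwa [mem_centralizer_singleton.1 hg, mul_inv_cancel_right])

theorem normalizer_le_of_stronglyEmbedded [Finite G] {H R : Subgroup G}
    (hH : Cfsg.IsStronglyEmbedded H) (hRH : R ≤ H) (hR : IsPGroup 2 R) (hne : R ≠ ⊥) :
    Subgroup.normalizer (R : Set G) ≤ H := by
  obtain ⟨k, hk⟩ := hR.exists_card_eq
  have heven : 2 ∣ Nat.card R := by
    rcases k with _ | k
    · exact absurd (Subgroup.card_eq_one.1 (by simpa using hk)) hne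
    · exact hk ▸ dvd_pow_self 2 (Nat.succ_ne_zero k)
  obtain ⟨⟨t, ht⟩, ht2⟩ := exists_prime_orderOf_dvd_card' (G := ↥R) 2 heven
  intro g hg
  have ht2' : orderOf t = 2 := by rw [← ht2]; exact (Subgroup.orderOf_mk t ht).symm
  exact mem_of_conj_mem_of_stronglyEmbedded hH (hRH ht) ht2'
    (hRH ((Subgroup.mem_normalizer_iff.1 hg t).1 ht))

/-- If normalizers of nontrivial 2-subgroups of a Sylow 2-subgroup of `H` lie in `H`, then `H`
contains every conjugating element between involutions of `H`. -/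
theorem mem_of_normalizer_le [Finite G] {H : Subgroup G} (P : Sylow 2 ↥H)
    (hN : ∀ X : Subgroup ↥H, X ≤ (P : Subgroup ↥H) → X ≠ ⊥ →
      Subgroup.normalizer ((X.map H.subtype : Subgroup G) : Set G) ≤ H)
    {t g : G} (ht : t ∈ H) (ht2 : orderOf t = 2) (hg : g * t * g⁻¹ ∈ H) : g ∈ H := by
  -- normalizers of all nontrivial 2-subgroups of `H`
  have hall : ∀ R : Subgroup G, R ≤ H → IsPGroup 2 R → R ≠ ⊥ →
      Subgroup.normalizer (R : Set G) ≤ H := by
    intro R hRH hR hne n hn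
    obtain ⟨c, hc⟩ := exists_conj_mem_sylow P
      (hR.comap_of_injective H.subtype H.subtype_injective)
    let X : Subgroup ↥H := (R.subgroupOf H).map (MulAut.conj c).toMonoidHom
    have hXP : X ≤ (P : Subgroup ↥H) := by
      rintro _ ⟨x, hx, rfl⟩; exact hc x hx
    have hmemX : ∀ y : G, y ∈ X.map H.subtype ↔ (c : G)⁻¹ * y * c ∈ R := by
      intro y
      constructor
      · rintro ⟨_, ⟨x, hx, rfl⟩, rfl⟩
        show (c : G)⁻¹ * ((c : G) * x * (c : G)⁻¹) * c ∈ R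
        rw [show (c : G)⁻¹ * ((c : G) * x * (c : G)⁻¹) * c = (x : G) by group]
        exact hx
      · intro hy
        refine ⟨_, ⟨⟨_, hRH hy⟩, hy, rfl⟩, ?_⟩
        show (c : G) * ((c : G)⁻¹ * y * c) * (c : G)⁻¹ = y
        group
    have hXne : X ≠ ⊥ := by
      intro hX
      refine hne ((Subgroup.eq_bot_iff_forall R).2 fun r hr => ?_)
      have hm : (c : G) * r * (c : G)⁻¹ ∈ X.map H.subtype := (hmemX _).2 (by
        rwa [show (c : G)⁻¹ * ((c : G) * r * (c : G)⁻¹) * c = r by group])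
      rw [hX, Subgroup.map_bot, Subgroup.mem_bot, mul_inv_eq_one] at hm
      exact mul_left_cancel (a := (c : G)) (by rw [mul_one]; exact hm)
    have hcn : (c : G) * n * (c : G)⁻¹ ∈ H := hN X hXP hXne (Subgroup.mem_normalizer_iff.2 fun y => by
      rw [hmemX, hmemX]
      rw [show (c : G)⁻¹ * ((c : G) * n * (c : G)⁻¹ * y * ((c : G) * n * (c : G)⁻¹)⁻¹) * c
        = n * ((c : G)⁻¹ * y * c) * n⁻¹ by group]
      exact Subgroup.mem_normalizer_iff.1 hn _)
    have := H.mul_mem (H.mul_mem (H.inv_mem c.2) hcn) c.2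
    rwa [show (c : G)⁻¹ * ((c : G) * n * (c : G)⁻¹) * c = n by group] at this
  set s := g * t * g⁻¹ with hs
  set K := H ⊓ H.map (MulAut.conj g).toMonoidHom with hK
  have hs2 : orderOf s = 2 := (orderOf_conj g t).trans ht2
  have hsK : s ∈ K := Subgroup.mem_inf.2 ⟨hg, ⟨t, ht, rfl⟩⟩
  obtain ⟨Q, hQ⟩ :=
    ((isPGroup_zpowers_of_involution hs2).comap_of_injective K.subtype K.subtype_injective).exists_le_sylow
  let Q' : Subgroup G := (Q : Subgroup ↥K).map K.subtype
  have hsQ : s ∈ Q' := ⟨⟨s, hsK⟩, hQ (Subgroup.mem_zpowers s), rfl⟩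
  have hQK : Q' ≤ K := Subgroup.map_subtype_le _
  have hQp : IsPGroup 2 Q' := Q.isPGroup'.map _
  have hQne : Q' ≠ ⊥ := fun h => ne_one hs2 (Subgroup.mem_bot.1 (h ▸ hsQ))
  have hNQ : Subgroup.normalizer (Q' : Set G) ≤ K := by
    refine le_inf (hall Q' (hQK.trans inf_le_left) hQp hQne) fun n hn => ?_
    rw [mem_map_conj]
    let R : Subgroup G := Q'.map (MulAut.conj g⁻¹).toMonoidHom
    have hmemR : ∀ y : G, y ∈ R ↔ g * y * g⁻¹ ∈ Q' := fun y => by
      rw [mem_map_conj, inv_inv]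
    refine hall R (fun y hy => ?_) (hQp.map _) ?_ (Subgroup.mem_normalizer_iff.2 fun y => ?_)
    · have h := mem_map_conj.1 (inf_le_right (a := H) (hQK ((hmemR y).1 hy)))
      rwa [show g⁻¹ * (g * y * g⁻¹) * g = y by group] at h
    · intro h
      refine hQne ?_
      rwa [Subgroup.map_eq_bot_iff_of_injective _ (MulAut.conj g⁻¹).injective] at h
    · rw [hmemR, hmemR]
      rw [show g * (g⁻¹ * n * g * y * (g⁻¹ * n * g)⁻¹) * g⁻¹ = n * (g * y * g⁻¹) * n⁻¹ by group]
      exact Subgroup.mem_normalizer_iff.1 hn _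
  obtain ⟨T, hT⟩ := hQp.exists_le_sylow
  -- `Q'` is a Sylow subgroup of `G`
  have hTeq : Q' = T := by
    by_contra hne'
    have hnil : Group.IsNilpotent ↥(T : Subgroup G) := T.isPGroup'.isNilpotent
    have hlt : Q'.subgroupOf T < ⊤ := by
      refine lt_top_iff_ne_top.2 fun h => hne' (le_antisymm hT ?_)
      rwa [Subgroup.subgroupOf_eq_top] at h
    obtain ⟨⟨y, hyT⟩, hyN, hyQ⟩ := SetLike.exists_of_lt (Group.normalizerCondition_of_isNilpotent
      (G := ↥(T : Subgroup G)) _ hlt)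
    refine hyQ ?_
    show y ∈ Q'
    rw [Subgroup.mem_normalizer_iff] at hyN
    have hy : y ∈ Subgroup.normalizer (Q' : Set G) := by
      refine Subgroup.mem_normalizer_iff.2 fun x => ?_
      constructor
      · intro hx
        exact (hyN ⟨x, hT hx⟩).1 hx
      · intro hx
        have hxT : x ∈ (T : Subgroup G) := by
          have h := mul_mem (mul_mem (inv_mem hyT) (hT hx)) hyT
          rwa [show y⁻¹ * (y * x * y⁻¹) * y = x by group] at h
        exact (hyN ⟨x, hxT⟩).2 hx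
    have hp : IsPGroup 2 ↥((T : Subgroup G).subgroupOf K) :=
      IsPGroup.comap_of_injective T.isPGroup' K.subtype K.subtype_injective
    have := Q.is_maximal' hp fun q hq => hT ⟨q, hq, rfl⟩
    have hyQ' : (⟨y, hNQ hy⟩ : ↥K) ∈ (Q : Subgroup ↥K) := by rw [← this]; exact hyT
    exact ⟨_, hyQ', rfl⟩
  have hTH : (T : Subgroup G) ≤ H := hTeq ▸ hQK.trans inf_le_left
  have hT'H : ((g⁻¹ • T : Sylow 2 G) : Subgroup G) ≤ H := by
    rintro _ ⟨y, hy, rfl⟩
    show g⁻¹ * y * g⁻¹⁻¹ ∈ H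
    rw [inv_inv]
    exact mem_map_conj.1 (inf_le_right (a := H) (hQK (hTeq ▸ hy)))
  obtain ⟨h, hh⟩ := MulAction.exists_smul_eq ↥H (T.subtype hTH) ((g⁻¹ • T).subtype hT'H)
  rw [Sylow.smul_subtype hTH h] at hh
  have hh' : h • T = g⁻¹ • T := Sylow.subtype_injective hh
  have hfix : (g * (h : G)) • T = T := by
    rw [mul_smul, show (h : G) • T = h • T from rfl, hh', smul_inv_smul]
  have hmem := hall T hTH T.isPGroup' (fun h => hQne (hTeq.trans h))
    (Sylow.smul_eq_iff_mem_normalizer.1 hfix)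
  have := H.mul_mem hmem (H.inv_mem h.2)
  rwa [mul_inv_cancel_right] at this

end CfsgLib.Involutions
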