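/-
Groups with an involution whose centralizer is dihedral of order eight.
-/
import Cfsg.Agent.S0848
import Cfsg.Agent.S0497
import Cfsg.Agent.S3277
import Cfsg.Agent.Lib.Involutions.BrauerSuzuki
import Cfsg.Agent.Lib.Involutions.Basic
import Cfsg.Agent.Lib.Generators.SmallPermGroups
import Cfsg.Agent.Lib.SmallGroups.Order24
import Cfsg.Agent.Lib.SolvableStructure.MinimalNormal
import Cfsg.Agent.Lib.Cores.PCore

set_option autoImplicit false
set_option linter.unusedSectionVars false

open Cfsg
open scoped commutatorElement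

namespace CfsgLib.Involutions

universe u

theorem zmod2_cases : ∀ z : ZMod 2, z = 0 ∨ z = 1 := by decide

theorem d4_facts :
    (∀ x : DihedralGroup 4, x ≠ 1 →
      x = .r 2 ∨ ∃ y, x * y * x⁻¹ * y⁻¹ = .r 2) ∧
    (∀ x : DihedralGroup 4, x * x = 1 → x ≠ 1 → x ≠ .r 2 →
      ∃ y, y * x * y⁻¹ = x * .r 2) ∧
    (∀ a x : DihedralGroup 4, a * a = 1 → a ≠ 1 → a ≠ .r 2 → x * a = a * x →
      x = 1 ∨ x = .r 2 ∨ x = a ∨ x = a * .r 2) ∧
    (∀ x : DihedralGroup 4, x * .r 2 = .r 2 * x) ∧
    (∀ z : DihedralGroup 4, (∀ y, z * y = y * z) → z ≠ 1 → z = .r 2) ∧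
    ∃ x y : DihedralGroup 4, x * y ≠ y * x :=
  ⟨by decide, by decide, by decide, by decide, by decide, .r 1, .sr 0, by decide⟩

variable {G : Type u} [Group G] [Finite G]

/-- The centralizer is a Sylow subgroup, and basic facts about it. -/
theorem dihedralEight_setup {t : G} (ht : orderOf t = 2)
    (e : Subgroup.centralizer ({t} : Set G) ≃* DihedralGroup 4) :
    (∃ P : Sylow 2 G, (P : Subgroup G) = Subgroup.centralizer ({t} : Set G)) ∧
      Nat.card (Subgroup.centralizer ({t} : Set G)) = 8 ∧
      ∀ htC : t ∈ Subgroup.centralizer ({t} : Set G), e ⟨t, htC⟩ = .r 2 := by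
  haveI : Fact (Nat.Prime 2) := ⟨Nat.prime_two⟩
  let C := Subgroup.centralizer ({t} : Set G)
  have ht1 : t ≠ 1 := fun h => by rw [h, orderOf_one] at ht; omega
  obtain ⟨-, -, -, -, hcen, -⟩ := d4_facts
  have htC : t ∈ C := Subgroup.mem_centralizer_singleton_iff.2 rfl
  have het : e ⟨t, htC⟩ = .r 2 := by
    refine hcen _ (fun w => ?_) fun h => ht1 (congrArg Subtype.val (e.map_eq_one_iff.1 h))
    obtain ⟨y, rfl⟩ := e.surjective w
    rw [← map_mul, ← map_mul]
    exact congrArg e (Subtype.ext (Subgroup.mem_centralizer_singleton_iff.1 y.2).symm)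
  have hC8 : Nat.card C = 8 := by rw [Nat.card_congr e.toEquiv, DihedralGroup.nat_card]
  have hp : IsPGroup 2 C := IsPGroup.of_card (n := 3) (by rw [hC8]; norm_num)
  obtain ⟨P, hP⟩ := hp.exists_le_sylow
  refine ⟨⟨P, le_antisymm ?_ hP⟩, hC8, fun h => het⟩
  by_contra hlt
  -- normalizers grow
  haveI : Group.IsNilpotent (P : Subgroup G) := P.isPGroup'.isNilpotent
  have hne : C.subgroupOf (P : Subgroup G) < ⊤ :=
    lt_top_iff_ne_top.2 fun h => hlt (Subgroup.subgroupOf_eq_top.1 h)
  obtain ⟨y, hyN, hyC⟩ := SetLike.exists_of_lt (Group.normalizerCondition_of_isNilpotent _ hne)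
  refine hyC ?_
  show (y : G) ∈ Subgroup.centralizer ({t} : Set G)
  rw [Subgroup.mem_centralizer_singleton_iff]
  have htP : (⟨t, hP htC⟩ : (P : Subgroup G)) ∈ C.subgroupOf (P : Subgroup G) := htC
  have hyt : (y : G) * t * (y : G)⁻¹ ∈ C := (Subgroup.mem_normalizer_iff.1 hyN _).1 htP
  have hyz : e ⟨_, hyt⟩ = .r 2 := by
    refine hcen _ (fun w => ?_) fun h => ht1 ?_
    · obtain ⟨c, rfl⟩ := e.surjective w
      rw [← map_mul, ← map_mul]
      refine congrArg e (Subtype.ext ?_)
      have hc' : (y : G)⁻¹ * c * y ∈ C := by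
        have := (Subgroup.mem_normalizer_iff.1 (Subgroup.inv_mem _ hyN)
          (⟨c, hP c.2⟩ : (P : Subgroup G))).1 c.2
        simpa [Subgroup.mem_subgroupOf] using this
      have h2 := Subgroup.mem_centralizer_singleton_iff.1 hc'
      show (y : G) * t * (y : G)⁻¹ * c = c * ((y : G) * t * (y : G)⁻¹)
      calc (y : G) * t * (y : G)⁻¹ * c = y * (t * ((y : G)⁻¹ * c * y)) * (y : G)⁻¹ := by group
        _ = c * ((y : G) * t * (y : G)⁻¹) := by rw [← h2]; group
    · exact conj_eq_one_iff.1 (congrArg Subtype.val (e.map_eq_one_iff.1 h))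
  exact mul_inv_eq_iff_eq_mul.1 (congrArg Subtype.val (e.injective (hyz.trans het.symm)))

/-- An automorphism without fixed points squaring to one inverts. -/
theorem conj_eq_inv_of_fixedPointFree {u : G} (hu : orderOf u = 2) (O : Subgroup G) [O.Normal]
    (hfpf : ∀ x ∈ O, u * x = x * u → x = 1) : ∀ x ∈ O, u * x * u⁻¹ = x⁻¹ := by
  intro x hx
  let f : O → O := fun y => ⟨(y : G)⁻¹ * (u * y * u⁻¹),
    O.mul_mem (O.inv_mem y.2) (Subgroup.Normal.conj_mem inferInstance _ y.2 u)⟩
  have hinj : Function.Injective f := by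
    intro y z h
    have h' : (y : G)⁻¹ * (u * y * u⁻¹) = (z : G)⁻¹ * (u * z * u⁻¹) := congrArg Subtype.val h
    have h2 : u * ((y : G) * (z : G)⁻¹) * u⁻¹ = (y : G) * (z : G)⁻¹ := by
      calc u * ((y : G) * (z : G)⁻¹) * u⁻¹
          = (y : G) * ((y : G)⁻¹ * (u * y * u⁻¹)) * (u * (z : G) * u⁻¹)⁻¹ := by group
        _ = _ := by rw [h']; group
    have := hfpf _ (O.mul_mem y.2 (O.inv_mem z.2)) (mul_inv_eq_iff_eq_mul.1 h2)
    exact Subtype.ext (mul_inv_eq_one.1 this)
  obtain ⟨y, hy⟩ := Finite.surjective_of_injective hinj ⟨x, hx⟩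
  have e : (y : G)⁻¹ * (u * y * u⁻¹) = x := congrArg Subtype.val hy
  rw [← e, inv_eq_self hu, mul_inv_rev, mul_inv_rev, mul_inv_rev, inv_inv, inv_eq_self hu]
  calc u * ((y : G)⁻¹ * (u * y * u)) * u = u * (y : G)⁻¹ * u * y * (u * u) := by group
    _ = u * ((y : G)⁻¹ * u) * y := by rw [mul_self_eq_one hu, mul_one, mul_assoc u]

theorem dihedral_eight_centralizer {t : G} (ht : orderOf t = 2)
    (e : Subgroup.centralizer ({t} : Set G) ≃* DihedralGroup 4) :
    Subgroup.centralizer ({t} : Set G) ⊔ oddCore G = ⊤ ∨ Nonempty (G ≃* Equiv.Perm (Fin 4)) ∨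
      Nonempty (G ≃* Equiv.Perm (Fin 5)) ∨
      Nonempty (G ≃* Matrix.SpecialLinearGroup (Fin 3) (ZMod 2)) ∨
      Nonempty (G ≃* ↥(alternatingGroup (Fin 6))) := by
  classical
  haveI : Fact (Nat.Prime 2) := ⟨Nat.prime_two⟩
  set C := Subgroup.centralizer ({t} : Set G) with hC
  obtain ⟨⟨P, hPC⟩, hC8, het'⟩ := dihedralEight_setup ht e
  have htC : t ∈ C := Subgroup.mem_centralizer_singleton_iff.2 rfl
  have het := het' htC
  have ht1 : t ≠ 1 := fun h => by rw [h, orderOf_one] at ht; omega
  have htt : t * t = 1 := mul_self_eq_one ht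
  obtain ⟨hcomm2, hconj2, hcent2, hr2, hcen, hna⟩ := d4_facts
  by_cases hiso : ∀ g : G, g * t * g⁻¹ ∈ P → g * t * g⁻¹ = t
  · -- `Z*`
    left
    rw [eq_top_iff]
    intro g _
    have hz := zstar_isolated P ht hiso g
    have ho : Odd (orderOf (t * (g * t * g⁻¹))) := by
      have : t * (g * t * g⁻¹) = t * g * t⁻¹ * g⁻¹ := by rw [inv_eq_self ht]; group
      rw [this]
      exact CfsgLib.Cores.odd_card_oddCore.of_dvd_nat (Subgroup.orderOf_dvd_natCard _ hz)
    obtain ⟨d, hd, hdt⟩ := exists_conj_eq_of_odd ht ((orderOf_conj g t).trans ht) ho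
    have hd' : d ∈ C ⊔ oddCore G := by
      refine (Subgroup.closure_le _).2 ?_ hd
      rintro y (rfl | rfl)
      · exact Subgroup.mem_sup_left htC
      · have : g * t * g⁻¹ = t * (t * g * t⁻¹ * g⁻¹) := by
          rw [inv_eq_self ht, ← mul_assoc, ← mul_assoc, ← mul_assoc, htt, one_mul]
        rw [SetLike.mem_coe, this]
        exact Subgroup.mul_mem_sup htC hz
    have hdC : d⁻¹ * g ∈ C := by
      rw [hC, Subgroup.mem_centralizer_singleton_iff]
      calc d⁻¹ * g * t = d⁻¹ * (g * t * g⁻¹) * g := by group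
        _ = t * (d⁻¹ * g) := by rw [← hdt]; group
    simpa using Subgroup.mul_mem _ hd' (Subgroup.mem_sup_left (T := oddCore G) hdC)
  right
  push Not at hiso
  obtain ⟨g, hgP, hgne⟩ := hiso
  set a := g * t * g⁻¹ with ha
  have haC : a ∈ C := hPC.le hgP
  have ha2 : orderOf a = 2 := (orderOf_conj g t).trans ht
  have haa : a * a = 1 := mul_self_eq_one ha2
  have ha1 : a ≠ 1 := fun h => by rw [h, orderOf_one] at ha2; omega
  have hea2 : e ⟨a, haC⟩ ≠ .r 2 := fun h => by
    have h' : (⟨a, haC⟩ : C) = ⟨t, htC⟩ := e.injective (by rw [h, het])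
    exact hgne (congrArg Subtype.val h')
  have hea1 : e ⟨a, haC⟩ ≠ 1 := fun h => ha1 (congrArg Subtype.val (e.map_eq_one_iff.1 h))
  have heaa : e ⟨a, haC⟩ * e ⟨a, haC⟩ = 1 := by
    rw [← map_mul]; exact e.map_eq_one_iff.2 (Subtype.ext haa)
  obtain ⟨y, hy⟩ := hconj2 _ heaa hea1 hea2
  obtain ⟨q, rfl⟩ := e.surjective y
  have hq : (q : G) * a * (q : G)⁻¹ = a * t := by
    rw [← het, ← map_inv, ← map_mul, ← map_mul, ← map_mul] at hy
    exact congrArg Subtype.val (e.injective hy)
  have hcentA : ∀ x ∈ C, x * a = a * x → x = 1 ∨ x = t ∨ x = a ∨ x = a * t := by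
    intro x hx hxa
    have := hcent2 _ (e ⟨x, hx⟩) heaa hea1 hea2 (by
      rw [← map_mul, ← map_mul]; exact congrArg e (Subtype.ext hxa))
    rw [← het, ← map_mul] at this
    rcases this with h | h | h | h
    · exact Or.inl (congrArg Subtype.val (e.map_eq_one_iff.1 h))
    · exact Or.inr (Or.inl (congrArg Subtype.val (e.injective h)))
    · exact Or.inr (Or.inr (Or.inl (congrArg Subtype.val (e.injective h))))
    · exact Or.inr (Or.inr (Or.inr (congrArg Subtype.val (e.injective h))))
  have hat : Commute a t := Subgroup.mem_centralizer_singleton_iff.1 haC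
  have hCpow : ∀ x ∈ C, Odd (orderOf x) → x = 1 := fun x hx ho => by
    have h8 : orderOf x ∣ 2 ^ 3 := by
      rw [show 2 ^ 3 = 8 by norm_num, ← hC8]
      exact Subgroup.orderOf_dvd_natCard _ hx
    exact orderOf_eq_one_iff.1
      (Nat.eq_one_of_dvd_coprimes ((Nat.coprime_two_left.2 ho).pow_left 3) h8 dvd_rfl)
  have hfpf : ∀ h : G, ∀ O : Subgroup G, Odd (Nat.card O) → ∀ x ∈ O,
      (h * t * h⁻¹) * x = x * (h * t * h⁻¹) → x = 1 := by
    intro h O hO x hx hxc
    have h1 : h⁻¹ * x * h ∈ C := by
      rw [hC, Subgroup.mem_centralizer_singleton_iff]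
      calc h⁻¹ * x * h * t = h⁻¹ * (x * (h * t * h⁻¹)) * h := by group
        _ = t * (h⁻¹ * x * h) := by rw [← hxc]; group
    have h2 : Odd (orderOf (h⁻¹ * x * h)) := by
      rw [show h⁻¹ * x * h = h⁻¹ * x * h⁻¹⁻¹ by rw [inv_inv], orderOf_conj]
      exact hO.of_dvd_nat (Subgroup.orderOf_dvd_natCard _ hx)
    have h3 := hCpow _ h1 h2
    rwa [show h⁻¹ * x * h = h⁻¹ * x * h⁻¹⁻¹ by rw [inv_inv], conj_eq_one_iff] at h3
  -- the core is trivial
  have hcore : ∀ O : Subgroup G, O.Normal → Odd (Nat.card O) → O = ⊥ := by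
    intro O hOn hO
    haveI := hOn
    have i1 := conj_eq_inv_of_fixedPointFree ht O (fun x hx hc => hfpf 1 O hO x hx (by simpa using hc))
    have i2 := conj_eq_inv_of_fixedPointFree ha2 O (fun x hx hc => hfpf g O hO x hx hc)
    rw [eq_bot_iff]
    intro x hx
    refine Subgroup.mem_bot.2 (hfpf ((q : G) * g) O hO x hx ?_)
    rw [show (q : G) * g * t * ((q : G) * g)⁻¹ = (q : G) * a * (q : G)⁻¹ by rw [ha]; group, hq]
    refine mul_inv_eq_iff_eq_mul.1 ?_
    calc a * t * x * (a * t)⁻¹ = a * (t * x * t⁻¹) * a⁻¹ := by group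
      _ = x := by rw [i1 x hx, i2 _ (O.inv_mem hx), inv_inv]
  haveI : Nontrivial G := ⟨⟨t, 1, ht1⟩⟩
  obtain ⟨L, -, hLn, hLne, hLmin⟩ :=
    CfsgLib.SolvableStructure.exists_minimal_normal (N := (⊤ : Subgroup G)) inferInstance top_ne_bot
  haveI := hLn
  have heven : 2 ∣ Nat.card L := by
    by_contra h
    exact hLne (hcore L hLn (Nat.odd_iff.2 (Nat.two_dvd_ne_zero.1 h)))
  obtain ⟨u, hu⟩ := exists_prime_orderOf_dvd_card' (G := L) 2 heven
  rw [← Subgroup.orderOf_coe] at hu
  obtain ⟨c, hc⟩ := exists_conj_mem_of_involution P hu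
  have hcC : c * (u : G) * c⁻¹ ∈ C := hPC.le hc
  have hcL : c * (u : G) * c⁻¹ ∈ L := hLn.conj_mem _ u.2 c
  have htL : t ∈ L := by
    have hne : e ⟨_, hcC⟩ ≠ 1 := fun h => by
      have := conj_eq_one_iff.1 (congrArg Subtype.val (e.map_eq_one_iff.1 h))
      rw [this, orderOf_one] at hu; omega
    rcases hcomm2 _ hne with h | ⟨w, hw⟩
    · rw [← het] at h
      have := congrArg Subtype.val (e.injective h)
      have h2 : c * (u : G) * c⁻¹ = t := this
      exact h2 ▸ hcL
    · obtain ⟨w', rfl⟩ := e.surjective w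
      rw [← het, ← map_inv, ← map_inv, ← map_mul, ← map_mul, ← map_mul] at hw
      have h2 := congrArg Subtype.val (e.injective hw)
      rw [← show ((⟨_, hcC⟩ : C) * w' * (⟨_, hcC⟩ : C)⁻¹ * w'⁻¹ : C).1 = t from h2]
      have := L.mul_mem hcL (hLn.conj_mem _ (L.inv_mem hcL) (w' : G))
      simpa [mul_assoc] using this
  have haL : a ∈ L := hLn.conj_mem _ htL g
  have hnsolv : ¬ IsMulCommutative L → commutator L = ⊤ := by
    intro hna'
    have hchar : (commutator L).map L.subtype = ⊥ ∨ (commutator L).map L.subtype = L := by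
      refine hLmin _ ?_ (Subgroup.map_subtype_le _)
      infer_instance
    rcases hchar with h | h
    · exfalso
      refine hna' ⟨⟨fun x y => ?_⟩⟩
      have : ⁅x, y⁆ ∈ commutator L := Subgroup.commutator_mem_commutator (by trivial) (by trivial)
      rw [(Subgroup.map_eq_bot_iff_of_injective _ L.subtype_injective).1 h, Subgroup.mem_bot,
        commutatorElement_eq_one_iff_mul_comm] at this
      exact this
    · exact Subgroup.map_injective L.subtype_injective (h.trans (by simp [← MonoidHom.range_eq_map]))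
  by_cases hCL : C ≤ L
  · -- simple of order 168 or 360
    right; right
    have hLna : ¬ IsMulCommutative L := fun h => by
      obtain ⟨x, y, hxy⟩ := hna
      obtain ⟨x', rfl⟩ := e.surjective x
      obtain ⟨y', rfl⟩ := e.surjective y
      exact hxy (by
        rw [← map_mul, ← map_mul]
        exact congrArg e (Subtype.ext (show (x' : G) * (y' : G) = y' * x' from congrArg Subtype.val
          (h.is_comm.comm ⟨_, hCL x'.2⟩ ⟨_, hCL y'.2⟩))))
    -- Frattini
    have hLtop : L = ⊤ := by
      have hPL : (P : Subgroup G) ≤ L := hPC.le.trans hCL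
      have h := Sylow.normalizer_sup_eq_top' P hPL
      rw [eq_top_iff, ← h]
      refine sup_le (fun x hx => hCL ?_) le_rfl
      rw [hC, Subgroup.mem_centralizer_singleton_iff]
      have hxt : x * t * x⁻¹ ∈ C :=
        hPC.le ((Subgroup.mem_normalizer_iff.1 hx t).1 (hPC.ge htC))
      have hz : e ⟨_, hxt⟩ = .r 2 := by
        refine hcen _ (fun w => ?_) fun h => ht1
          (conj_eq_one_iff.1 (congrArg Subtype.val (e.map_eq_one_iff.1 h)))
        obtain ⟨w', rfl⟩ := e.surjective w
        rw [← map_mul, ← map_mul]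
        refine congrArg e (Subtype.ext ?_)
        show x * t * x⁻¹ * (w' : G) = (w' : G) * (x * t * x⁻¹)
        have hw' : x⁻¹ * (w' : G) * x ∈ C := by
          have := (Subgroup.mem_normalizer_iff.1 (inv_mem hx) (w' : G)).1
            (hPC.ge w'.2)
          rw [inv_inv] at this
          exact hPC.le this
        have h2 := Subgroup.mem_centralizer_singleton_iff.1 hw'
        calc x * t * x⁻¹ * (w' : G) = x * (t * (x⁻¹ * (w' : G) * x)) * x⁻¹ := by group
          _ = (w' : G) * (x * t * x⁻¹) := by rw [← h2]; group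
      exact mul_inv_eq_iff_eq_mul.1 (congrArg Subtype.val (e.injective (hz.trans het.symm)))
    subst hLtop
    haveI : IsSimpleGroup G := ⟨fun N hN => hLmin N hN le_top⟩
    have hGna : ¬ IsMulCommutative G := fun h => hLna
      ⟨⟨fun x y => Subtype.ext (h.is_comm.comm (x : G) (y : G))⟩⟩
    have hperf : commutator G = ⊤ := by
      refine (inferInstance : (commutator G).Normal).eq_bot_or_eq_top.resolve_left fun h => hGna ?_
      refine ⟨⟨fun x y => ?_⟩⟩
      have : ⁅x, y⁆ ∈ commutator G := Subgroup.commutator_mem_commutator (by trivial) (by trivial)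
      rw [h, Subgroup.mem_bot, commutatorElement_eq_one_iff_mul_comm] at this
      exact this
    rcases Cfsg.Agent.S0848.result hperf t ht e with h | h
    · left
      have hns : CfsgLib.Generators.SmallPermGroups.NoSolvNormal G := fun N hN hsolv =>
        (hN.eq_bot_or_eq_top).resolve_right fun hNtop => hGna (by
          subst hNtop
          haveI := hsolv
          haveI : Group.IsSolvable G :=
            Group.isSolvable_of_surjective (f := (⊤ : Subgroup G).subtype) fun x => ⟨⟨x, trivial⟩, rfl⟩
          exact ⟨⟨fun x y => IsSimpleGroup.comm_iff_isSolvable.2 inferInstance x y⟩⟩)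
      obtain ⟨φ⟩ := CfsgLib.Generators.SmallPermGroups.iso_GL3 hns h
      have hbij : Function.Bijective
          (Matrix.SpecialLinearGroup.toGL : Matrix.SpecialLinearGroup (Fin 3) (ZMod 2) → _) := by
        refine ⟨fun x y hxy => Subtype.ext (congrArg Units.val hxy), fun x => ?_⟩
        have hone : ∀ z : ZMod 2, IsUnit z → z = 1 := by
          intro z hz
          rcases zmod2_cases z with h0 | h0
          · exact absurd hz (h0 ▸ not_isUnit_zero)
          · exact h0
        exact ⟨⟨(x : Matrix (Fin 3) (Fin 3) (ZMod 2)),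
          hone _ ((Matrix.isUnit_iff_isUnit_det _).1 x.isUnit)⟩, Units.ext rfl⟩
      exact ⟨φ.trans (MulEquiv.ofBijective Matrix.SpecialLinearGroup.toGL hbij).symm⟩
    · right
      exact Cfsg.Agent.S0497.result h
  -- `L ∩ C` is a four-group
  have hat1 : a * t ≠ 1 := fun h => hgne ((eq_inv_of_mul_eq_one_left h).trans (inv_eq_self ht))
  have hat2 : a * t ≠ t := fun h => ha1 (mul_right_cancel (h.trans (one_mul t).symm))
  have hat3 : a * t ≠ a := fun h => ht1 (mul_left_cancel (h.trans (mul_one a).symm))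
  have h4 : ({1, t, a, a * t} : Set G).ncard = 4 := by
    rw [Set.ncard_insert_of_notMem (by simp [Ne.symm ht1, Ne.symm ha1, Ne.symm hat1]),
      Set.ncard_insert_of_notMem (by simp [Ne.symm hgne, Ne.symm hat2]),
      Set.ncard_pair (Ne.symm hat3)]
  have h4sub : ({1, t, a, a * t} : Set G) ⊆ (L ⊓ C : Subgroup G) := by
    rintro y (rfl | rfl | rfl | rfl)
    exacts [⟨L.one_mem, C.one_mem⟩, ⟨htL, htC⟩, ⟨haL, haC⟩,
      ⟨L.mul_mem haL htL, C.mul_mem haC htC⟩]
  have hLC : ∀ x ∈ L, x ∈ C → x = 1 ∨ x = t ∨ x = a ∨ x = a * t := by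
    intro x hxL hxC
    by_contra hx
    refine hCL fun z hz => ?_
    have hd : Nat.card (L ⊓ C : Subgroup G) ∣ 8 := hC8 ▸ Subgroup.card_dvd_of_le inf_le_right
    have h5 : 4 < Nat.card (L ⊓ C : Subgroup G) := by
      have hxs : x ∉ ({1, t, a, a * t} : Set G) := by simpa using hx
      have hle := Set.ncard_le_ncard (Set.insert_subset (show x ∈ ((L ⊓ C : Subgroup G) : Set G) from ⟨hxL, hxC⟩) h4sub)
        (Set.toFinite _)
      rw [Set.ncard_insert_of_notMem hxs, h4, ← Nat.card_coe_set_eq] at hle
      exact hle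
    have h8 : Nat.card (L ⊓ C : Subgroup G) = 8 := by
      have := Nat.le_of_dvd (by norm_num) hd
      interval_cases hk : Nat.card (L ⊓ C : Subgroup G) <;> omega
    have := Subgroup.eq_of_le_of_card_ge (inf_le_right : L ⊓ C ≤ C) (by rw [hC8, h8])
    exact (this.symm ▸ hz : z ∈ L ⊓ C).1
  set V := L ⊓ C with hV
  have hV4 : Nat.card V = 4 := by
    have : (V : Set G) = {1, t, a, a * t} := Set.Subset.antisymm (fun x hx => hLC x hx.1 hx.2) h4sub
    rw [← h4, ← this, ← Nat.card_coe_set_eq]
    rfl
  have hVsq : ∀ x ∈ V, x * x = 1 := by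
    intro x hx
    rcases hLC x hx.1 hx.2 with rfl | rfl | rfl | rfl
    · exact one_mul 1
    · exact htt
    · exact haa
    · rw [mul_assoc, ← mul_assoc t, ← hat.eq, mul_assoc a t t, htt, mul_one, haa]
  by_cases hLab : IsMulCommutative L
  · -- `G ≅ S₄`
    left
    have hLV : L = V := le_antisymm (fun x hx => ⟨hx, Subgroup.mem_centralizer_singleton_iff.2
      (congrArg Subtype.val (hLab.is_comm.comm ⟨x, hx⟩ ⟨t, htL⟩))⟩) inf_le_left
    let ψ : G →* MulAut L := MulAut.conjNormal
    have hkerV : ψ.ker = L := by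
      refine le_antisymm (fun x hx => ?_) fun x hx => ?_
      · have h : ∀ y ∈ L, x * y * x⁻¹ = y := fun y hy => by
          have := congrArg (fun f : MulAut L => ((f ⟨y, hy⟩ : L) : G)) (MonoidHom.mem_ker.1 hx)
          simpa [ψ, MulAut.conjNormal_apply] using this
        have hxC : x ∈ C := by
          rw [hC, Subgroup.mem_centralizer_singleton_iff]
          exact mul_inv_eq_iff_eq_mul.1 (h t htL)
        rw [hLV]
        rcases hcentA x hxC (mul_inv_eq_iff_eq_mul.1 (h a haL)) with rfl | rfl | rfl | rfl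
        · exact V.one_mem
        · exact ⟨htL, htC⟩
        · exact ⟨haL, haC⟩
        · exact V.mul_mem ⟨haL, haC⟩ ⟨htL, htC⟩
      · refine MonoidHom.mem_ker.2 (MulEquiv.ext fun y => Subtype.ext ?_)
        simp only [ψ, MulAut.conjNormal_apply, MulAut.one_apply]
        rw [show x * (y : G) = y * x from congrArg Subtype.val (hLab.is_comm.comm ⟨x, hx⟩ y)]
        exact mul_inv_cancel_right _ _
    -- three points
    let X := {y : L // y ≠ 1}
    have hX : Nat.card X = 3 := by
      haveI := Fintype.ofFinite L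
      rw [Nat.card_eq_fintype_card, Fintype.card_subtype_compl, Fintype.card_subtype_eq,
        ← Nat.card_eq_fintype_card, hLV, hV4]
    have hAut : Nat.card (MulAut L) ∣ 6 := by
      let act : MulAut L →* Equiv.Perm X :=
        { toFun := fun f => f.toEquiv.subtypeEquiv fun y => by
            show y ≠ 1 ↔ f y ≠ 1
            exact not_congr f.map_eq_one_iff.symm
          map_one' := Equiv.ext fun y => rfl
          map_mul' := fun f f' => Equiv.ext fun y => rfl }
      have hinj : Function.Injective act := fun f f' h => MulEquiv.ext fun y => by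
        by_cases hy : y = 1
        · rw [hy, map_one, map_one]
        · exact congrArg Subtype.val (congrArg (fun π : Equiv.Perm X => π ⟨y, hy⟩) h)
      have := Subgroup.card_dvd_of_injective act hinj
      rwa [Nat.card_perm, hX] at this
    have hidx : L.index ∣ 6 := by
      rw [← hkerV, Subgroup.index_ker]
      exact (Subgroup.card_subgroup_dvd_card _).trans hAut
    have hmul := L.card_mul_index
    have hL4 : Nat.card L = 4 := hLV ▸ hV4
    rw [hL4] at hmul
    have h8 : 8 ∣ Nat.card G := hC8 ▸ Subgroup.card_subgroup_dvd_card C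
    have hne8 : Nat.card G ≠ 8 := fun h => by
      have hCtop : C = ⊤ := Subgroup.eq_top_of_card_eq C (by rw [hC8, h])
      refine hgne ?_
      have hgC : g ∈ C := hCtop ▸ Subgroup.mem_top g
      rw [ha, Subgroup.mem_centralizer_singleton_iff.1 hgC, mul_inv_cancel_right]
    have h24 : Nat.card G = 24 := by
      have hle := Nat.le_of_dvd (by norm_num) hidx
      rw [← hmul] at h8 hne8 ⊢
      interval_cases hk : L.index <;> omega
    refine CfsgLib.SmallGroups.nonempty_mulEquiv_perm_four h24 fun x hx => ?_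
    -- no element of order six
    have h3 : orderOf (x ^ 2) = 3 := by rw [orderOf_pow, hx]; rfl
    have h2 : orderOf (x ^ 3) = 2 := by rw [orderOf_pow, hx]; rfl
    have hcm : Commute (x ^ 2) (x ^ 3) := (Commute.refl x).pow_pow 2 3
    -- `x ^ 2` fixes no involution of `L`
    have hfree : ∀ y ∈ L, y ≠ 1 → ¬ Commute (x ^ 2) y := by
      intro y hy hy1 hc'
      rw [hLV] at hy
      obtain ⟨h, hh⟩ : ∃ h : G, h * t * h⁻¹ = y := by
        rcases hLC y hy.1 hy.2 with rfl | rfl | rfl | rfl
        · exact absurd rfl hy1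
        · exact ⟨1, by group⟩
        · exact ⟨g, rfl⟩
        · exact ⟨(q : G) * g, by rw [← hq, ha]; group⟩
      have := hfpf h (Subgroup.zpowers (x ^ 2)) (by rw [Nat.card_zpowers, h3]; decide)
        (x ^ 2) (Subgroup.mem_zpowers _) (by rw [hh]; exact hc'.eq.symm)
      rw [this, orderOf_one] at h3
      omega
    by_cases hin : x ^ 3 ∈ L
    · exact hfree _ hin (fun h => by rw [h, orderOf_one] at h2; omega) hcm
    · -- otherwise `x` maps to an element of order six in a group of order six
      have hq6 : orderOf (QuotientGroup.mk' L x) = 6 := by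
        have hd : orderOf (QuotientGroup.mk' L x) ∣ 6 := hx ▸ orderOf_map_dvd _ x
        have n3 : ¬ orderOf (QuotientGroup.mk' L x) ∣ 3 := fun h => hin (by
          rw [← QuotientGroup.eq_one_iff]
          exact (map_pow (QuotientGroup.mk' L) x 3).trans (orderOf_dvd_iff_pow_eq_one.1 h))
        have n2 : ¬ orderOf (QuotientGroup.mk' L x) ∣ 2 := fun h => by
          have hx2 : x ^ 2 ∈ L := by
            rw [← QuotientGroup.eq_one_iff]
            exact (map_pow (QuotientGroup.mk' L) x 2).trans (orderOf_dvd_iff_pow_eq_one.1 h)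
          have := Subgroup.orderOf_dvd_natCard _ hx2
          rw [h3, hL4] at this
          norm_num at this
        have := Nat.le_of_dvd (by norm_num) hd
        interval_cases hk : orderOf (QuotientGroup.mk' L x) <;> omega
      -- but the quotient acts faithfully on three points, so is not cyclic of order six
      let act : G →* Equiv.Perm X :=
        { toFun := fun f => (ψ f).toEquiv.subtypeEquiv fun y => by
            show y ≠ 1 ↔ ψ f y ≠ 1
            exact not_congr (ψ f).map_eq_one_iff.symm
          map_one' := Equiv.ext fun y => Subtype.ext (by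
            show ψ 1 y.1 = y.1; rw [map_one]; rfl)
          map_mul' := fun f f' => Equiv.ext fun y => Subtype.ext (by
            show ψ (f * f') y.1 = ψ f (ψ f' y.1); rw [map_mul]; rfl) }
      have hkact : act.ker = L := by
        rw [← hkerV]
        refine le_antisymm (fun f hf => MonoidHom.mem_ker.2 (MulEquiv.ext fun y => ?_)) fun f hf =>
          MonoidHom.mem_ker.2 (Equiv.ext fun y => Subtype.ext (by
            show ψ f y.1 = y.1; rw [MonoidHom.mem_ker.1 hf]; rfl))
        by_cases hy : y = 1
        · rw [hy, map_one, map_one]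
        · exact congrArg Subtype.val (congrArg (fun π : Equiv.Perm X => π ⟨y, hy⟩)
            (MonoidHom.mem_ker.1 hf))
      have h6 : orderOf (act x) = 6 := by
        rw [← hq6]
        refine Nat.dvd_antisymm ?_ ?_ <;> refine orderOf_dvd_of_pow_eq_one ?_
        · have := pow_orderOf_eq_one (QuotientGroup.mk' L x)
          rw [← map_pow] at this
          rw [← map_pow, ← MonoidHom.mem_ker, hkact]
          exact (QuotientGroup.eq_one_iff _).1 this
        · have := pow_orderOf_eq_one (act x)
          rw [← map_pow, ← MonoidHom.mem_ker, hkact] at this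
          rw [← map_pow]
          exact (QuotientGroup.eq_one_iff _).2 this
      haveI := Fintype.ofFinite X
      obtain ⟨ι⟩ : Nonempty (X ≃ Fin 3) := ⟨(Fintype.equivFinOfCardEq
        (by rw [← Nat.card_eq_fintype_card, hX]))⟩
      have h6' : orderOf (ι.permCongrHom (act x)) = 6 := by
        exact (orderOf_injective ι.permCongrHom.toMonoidHom ι.permCongrHom.injective _).trans h6
      have hall : ∀ π : Equiv.Perm (Fin 3), π ^ 2 = 1 ∨ π ^ 3 = 1 := by decide
      rcases hall (ι.permCongrHom (act x)) with h | h <;>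
        have := orderOf_dvd_of_pow_eq_one h <;> rw [h6'] at this <;> norm_num at this
  -- `G ≅ S₅`
  right; left
  have hperf := hnsolv hLab
  have hcenL : ∀ x ∈ L, x * t = t * x → x ∈ V := fun x hx h =>
    ⟨hx, Subgroup.mem_centralizer_singleton_iff.2 h⟩
  let t' : L := ⟨t, htL⟩
  have hCt' : ∀ x : L, x ∈ Subgroup.centralizer ({t'} : Set L) ↔ (x : G) ∈ V := fun x => by
    rw [Subgroup.mem_centralizer_singleton_iff]
    exact ⟨fun h => hcenL x x.2 (congrArg Subtype.val h),
      fun h => Subtype.ext (Subgroup.mem_centralizer_singleton_iff.1 h.2)⟩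
  have hVL : Subgroup.centralizer ({t'} : Set L) = V.subgroupOf L :=
    Subgroup.ext fun x => by rw [hCt', Subgroup.mem_subgroupOf]
  have hV4' : Nat.card (V.subgroupOf L) = 4 := by
    rw [Nat.card_congr (Subgroup.subgroupOfEquivOfLe (inf_le_left : V ≤ L)).toEquiv, hV4]
  have hLnc : ¬ HasNormalPComplement 2 L := by
    intro h
    obtain ⟨R, K, hKn, hcomp⟩ := h
    haveI := hKn
    have hmul := hcomp.card_mul
    obtain ⟨k, hk⟩ := R.isPGroup'.exists_card_eq
    have hk1 : Nat.card (R : Subgroup L) ≠ 1 := fun h1 => by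
      have h2 := R.card_eq_multiplicity
      rw [h1] at h2
      have := (Nat.prime_two.factorization_pos_of_dvd Nat.card_pos.ne' heven)
      have h3 := Nat.pow_right_injective le_rfl (h2.symm.trans (pow_zero 2).symm)
      omega
    have hKidx : Nat.card (L ⧸ K) = 2 ^ k := by
      rw [← hk, ← Subgroup.index_eq_card]
      exact hcomp.symm.index_eq_card
    haveI : Group.IsSolvable (L ⧸ K) := by
      haveI := (IsPGroup.of_card (p := 2) (G := L ⧸ K) (n := k) hKidx).isNilpotent
      infer_instance
    have hKtop : K ≠ ⊤ := by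
      intro h1
      rw [h1, Subgroup.card_top] at hmul
      exact hk1 (Nat.eq_of_mul_eq_mul_left (Nat.card_pos (α := L)) (hmul.trans (mul_one _).symm))
    haveI : Nontrivial (L ⧸ K) := QuotientGroup.nontrivial_iff.2 hKtop
    refine (Group.IsSolvable.commutator_lt_top_of_nontrivial (L ⧸ K)).ne ?_
    rw [eq_top_iff, ← Subgroup.map_top_of_surjective _ (QuotientGroup.mk'_surjective K), ← hperf,
      commutator_def, Subgroup.map_commutator, commutator_def]
    exact Subgroup.commutator_mono le_top le_top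
  have hLnoab : ∀ E : Subgroup L, E.Normal → Cfsg.IsElementaryAbelian 2 E →
      Nat.card E ≠ 2 ∧ Nat.card E ≠ 4 := by
    intro E hEn hEe
    by_contra hcon
    rw [not_and_or, not_not, not_not] at hcon
    haveI := hEn
    haveI := hEe.1
    -- `L` acts on `E` with solvable image
    haveI : Group.IsSolvable (MulAut E) := by
      haveI := Fintype.ofFinite E
      haveI : Finite {x : E // x ≠ 1} := inferInstance
      let act : MulAut E →* Equiv.Perm {x : E // x ≠ 1} :=
        { toFun := fun f => f.toEquiv.subtypeEquiv fun y => by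
            show y ≠ 1 ↔ f y ≠ 1
            exact not_congr f.map_eq_one_iff.symm
          map_one' := Equiv.ext fun y => rfl
          map_mul' := fun f f' => Equiv.ext fun y => rfl }
      have hinj : Function.Injective act := fun f f' h => MulEquiv.ext fun y => by
        by_cases hy : y = 1
        · rw [hy, map_one, map_one]
        · exact congrArg Subtype.val (congrArg (fun π : Equiv.Perm _ => π ⟨y, hy⟩) h)
      haveI : Group.IsSolvable (Equiv.Perm {x : E // x ≠ 1}) := by
        haveI := Fintype.ofFinite {x : E // x ≠ 1}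
        have hcard : Fintype.card {x : E // x ≠ 1} ≤ 4 := by
          rw [Fintype.card_subtype_compl, Fintype.card_subtype_eq, ← Nat.card_eq_fintype_card]
          omega
        let ι := (Fintype.equivFin {x : E // x ≠ 1}).trans
          (finCongr rfl)
        haveI : Group.IsSolvable (Equiv.Perm (Fin (Fintype.card {x : E // x ≠ 1}))) := by
          have : Fintype.card {x : E // x ≠ 1} ≤ 3 := by
            rw [Fintype.card_subtype_compl, Fintype.card_subtype_eq, ← Nat.card_eq_fintype_card]
            omega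
          refine CfsgLib.Generators.SmallPermGroups.isSolvable_of_two_primes 2 3 3 1
            Nat.prime_two Nat.prime_three (Nat.card_perm.trans (by rw [Nat.card_fin])) ?_
          clear ι
          interval_cases (Fintype.card {x : E // x ≠ 1}) <;> decide
        exact Group.isSolvable_of_isSolvable_injective (f := ι.permCongrHom.toMonoidHom)
          ι.permCongrHom.injective
      exact Group.isSolvable_of_isSolvable_injective (f := act) hinj
    let φ : L →* MulAut E := MulAut.conjNormal
    have hEcen : φ.ker = ⊤ := by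
      by_contra hne
      haveI : Group.IsSolvable φ.range :=
        Group.isSolvable_of_isSolvable_injective (f := φ.range.subtype) Subtype.val_injective
      haveI : Nontrivial φ.range := by
        obtain ⟨x, -, hx⟩ := SetLike.exists_of_lt (lt_top_iff_ne_top.2 hne)
        exact ⟨⟨⟨φ x, x, rfl⟩, 1, fun h => hx (MonoidHom.mem_ker.2 (congrArg Subtype.val h))⟩⟩
      refine (Group.IsSolvable.commutator_lt_top_of_nontrivial φ.range).ne ?_
      rw [eq_top_iff, ← Subgroup.map_top_of_surjective φ.rangeRestrict φ.rangeRestrict_surjective,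
        ← hperf, commutator_def, Subgroup.map_commutator, commutator_def]
      exact Subgroup.commutator_mono le_top le_top
    obtain ⟨x, hx⟩ : ∃ x : E, x ≠ 1 := by
      haveI : Nontrivial E := Finite.one_lt_card_iff_nontrivial.1 (by omega)
      exact exists_ne 1
    have hxt : ∀ y : L, y * (x : L) = (x : L) * y := fun y => by
      have := congrArg (fun f : MulAut E => ((f x : E) : L))
        (MonoidHom.mem_ker.1 (hEcen.symm ▸ Subgroup.mem_top y : y ∈ φ.ker))
      exact mul_inv_eq_iff_eq_mul.1 (by simpa [φ, MulAut.conjNormal_apply] using this)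
    have hxV : ((x : L) : G) ∈ V :=
      hcenL _ (x : L).2 (congrArg Subtype.val (hxt t')).symm
    obtain ⟨h, hh⟩ : ∃ h : G, h * t * h⁻¹ = ((x : L) : G) := by
      rcases hLC _ hxV.1 hxV.2 with h' | h' | h' | h'
      · exact absurd (Subtype.ext (Subtype.ext h')) hx
      · exact ⟨1, by rw [h']; group⟩
      · exact ⟨g, h'.symm⟩
      · exact ⟨(q : G) * g, by rw [h', ← hq, ha]; group⟩
    -- then `L` lies in the centralizer of a conjugate of `t`
    refine hLab ⟨⟨fun y z => ?_⟩⟩
    have hsub : ∀ w : L, h⁻¹ * (w : G) * h ∈ V := fun w => by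
      refine hcenL _ (by simpa using hLn.conj_mem _ w.2 h⁻¹) ?_
      have hw : (w : G) * ((x : L) : G) = ((x : L) : G) * w := congrArg Subtype.val (hxt w)
      rw [← hh] at hw
      calc h⁻¹ * (w : G) * h * t = h⁻¹ * ((w : G) * (h * t * h⁻¹)) * h := by group
        _ = t * (h⁻¹ * (w : G) * h) := by rw [hw]; group
    have hcommV : ∀ u v : G, u ∈ V → v ∈ V → u * v = v * u := fun u v hu hv => by
      have h1 := hVsq _ (V.mul_mem hu hv)
      have h2 := hVsq u hu
      have h3 := hVsq v hv
      calc u * v = (u * v)⁻¹ := (inv_eq_of_mul_eq_one_right h1).symm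
        _ = v⁻¹ * u⁻¹ := mul_inv_rev _ _
        _ = v * u := by rw [inv_eq_of_mul_eq_one_right h2, inv_eq_of_mul_eq_one_right h3]
    refine Subtype.ext ?_
    have := hcommV _ _ (hsub y) (hsub z)
    calc (y : G) * z = h * (h⁻¹ * (y : G) * h * (h⁻¹ * (z : G) * h)) * h⁻¹ := by group
      _ = (z : G) * y := by rw [this]; group
  obtain ⟨eA⟩ := Cfsg.Agent.S3277.result t'
    (by rw [← Subgroup.orderOf_coe]; exact ht) (by rw [hVL]; exact hV4')
    (fun c hc => by
      rw [hVL] at hc
      exact Subtype.ext ((pow_two _).trans (hVsq _ hc))) hLnc hLnoab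
  have hL60 : Nat.card L = 60 := by
    rw [Nat.card_congr eA.toEquiv, nat_card_alternatingGroup, Nat.card_fin]; rfl
  -- the action on the five four-groups
  have hVp : IsPGroup 2 (V.subgroupOf L) := IsPGroup.of_card (n := 2) (by rw [hV4']; norm_num)
  obtain ⟨Q, hQ⟩ := hVp.exists_le_sylow
  have hQeq : (Q : Subgroup L) = V.subgroupOf L := by
    refine (Subgroup.eq_of_le_of_card_ge hQ ?_).symm
    obtain ⟨k, hk⟩ := Q.isPGroup'.exists_card_eq
    have hd := hk ▸ hL60 ▸ Subgroup.card_subgroup_dvd_card (Q : Subgroup L)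
    rw [hk, hV4']
    have hk5 : k < 6 := (Nat.pow_lt_pow_iff_right (by norm_num)).1
      (lt_of_le_of_lt (Nat.le_of_dvd (by norm_num) hd) (by norm_num : 60 < 2 ^ 6))
    interval_cases k <;> norm_num at hd <;> norm_num
  have hmap : (Q : Subgroup L).map L.subtype = V := by
    rw [hQeq, Subgroup.subgroupOf_map_subtype, inf_eq_left.2 inf_le_left]
  set N := Subgroup.normalizer (V : Set G) with hN
  have hfr : N ⊔ L = ⊤ := by
    have := Sylow.normalizer_sup_eq_top Q
    rwa [hmap] at this
  have hVnot : ¬ L ≤ N := fun h => by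
    have hVn : V.Normal := by
      rw [← Subgroup.normalizer_eq_top_iff, eq_top_iff, ← hfr]
      exact sup_le le_rfl h
    rcases hLmin V hVn inf_le_left with h1 | h1
    · rw [h1, Subgroup.card_bot] at hV4; omega
    · rw [h1, hL60] at hV4; omega
  have hidx : N.index = (Subgroup.normalizer ((Q : Subgroup L) : Set L)).index := by
    have e1 := Subgroup.relIndex_mul_index (inf_le_right : N ⊓ L ≤ L)
    have e2 := Subgroup.relIndex_mul_index (inf_le_left : N ⊓ L ≤ N)
    rw [Subgroup.inf_relIndex_right] at e1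
    rw [Subgroup.inf_relIndex_left] at e2
    have e3 : L.relIndex N = L.index := by
      rw [← Subgroup.relIndex_sup_right (H := N), hfr, Subgroup.relIndex_top_right]
    have e4 : N.index = N.relIndex L := by
      rw [e3, ← e1, mul_comm] at e2
      exact Nat.eq_of_mul_eq_mul_right (Nat.pos_of_ne_zero Subgroup.index_ne_zero_of_finite) e2
    rw [hQeq, e4, Subgroup.relIndex, hN]
    rw [Subgroup.subgroupOf_normalizer_eq (inf_le_left : V ≤ L)]
  have h5 : N.index = 5 := by
    rw [hidx]
    set NQ := Subgroup.normalizer ((Q : Subgroup L) : Set L) with hNQ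
    have hQi : (Q : Subgroup L).index = 15 := by
      have := (Q : Subgroup L).card_mul_index
      rw [hQeq, hV4', hL60] at this
      rw [hQeq]; omega
    have hdvd : NQ.index ∣ 15 := hQi ▸ Subgroup.index_dvd_of_le Subgroup.le_normalizer
    have hLs : IsSimpleGroup L := eA.isSimpleGroup
    have hne1 : NQ.index ≠ 1 := fun h => hVnot fun x hx => by
      rw [Subgroup.index_eq_one] at h
      have hxN : (⟨x, hx⟩ : L) ∈ Subgroup.normalizer ((V.subgroupOf L : Subgroup L) : Set L) := by
        rw [← hQeq, ← hNQ, h]; trivial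
      rw [← Subgroup.subgroupOf_normalizer_eq (inf_le_left : V ≤ L)] at hxN
      exact hxN
    have hne3 : NQ.index ≠ 3 := fun h => by
      haveI := hLs
      let f := MulAction.toPermHom L (L ⧸ NQ)
      have hker : f.ker = ⊥ := (inferInstance : f.ker.Normal).eq_bot_or_eq_top.resolve_right fun ht' => by
        have : NQ = ⊤ := eq_top_iff.2 fun x _ => by
          have hx : f x = 1 := MonoidHom.mem_ker.1 (ht' ▸ Subgroup.mem_top x)
          have := congrArg (fun π : Equiv.Perm (L ⧸ NQ) => π ((1 : L) : L ⧸ NQ)) hx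
          simpa [f, MulAction.toPermHom_apply, QuotientGroup.eq] using this
        rw [this, Subgroup.index_top] at h
        omega
      have := Subgroup.card_dvd_of_injective f ((MonoidHom.ker_eq_bot_iff f).1 hker)
      rw [Nat.card_perm, ← Subgroup.index_eq_card, h, hL60] at this
      norm_num [Nat.factorial] at this
    have hne15 : NQ.index ≠ 15 := fun h => by
      have hNQeq : NQ = (Q : Subgroup L) := by
        refine (Subgroup.eq_of_le_of_card_ge Subgroup.le_normalizer ?_).symm
        have h1 := NQ.card_mul_index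
        have h2 := (Q : Subgroup L).card_mul_index
        rw [h, hL60] at h1
        rw [hQi, hL60] at h2
        show Nat.card NQ ≤ _
        omega
      have hcomp := MonoidHom.ker_transferSylow_isComplement' (P := Q) (by
        show NQ ≤ _
        rw [hNQeq]
        intro x hx
        refine Subgroup.mem_centralizer_iff.2 fun y hy => ?_
        replace hy : y ∈ (Q : Subgroup L) := hy
        replace hx : x ∈ (Q : Subgroup L) := hx
        rw [hQeq] at hy hx
        refine Subtype.ext ?_
        have hx2 : (x : G) * x = 1 := hVsq _ hx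
        have hy2 : (y : G) * y = 1 := hVsq _ hy
        have hxy2 : (y : G) * x * ((y : G) * x) = 1 := hVsq _ (V.mul_mem hy hx)
        calc (y : G) * x = ((y : G) * x)⁻¹ := (inv_eq_of_mul_eq_one_right hxy2).symm
          _ = (x : G)⁻¹ * (y : G)⁻¹ := mul_inv_rev _ _
          _ = (x : G) * y := by
            rw [inv_eq_of_mul_eq_one_right hx2, inv_eq_of_mul_eq_one_right hy2])
      haveI := hLs
      rcases (inferInstance : (MonoidHom.transferSylow Q _).ker.Normal).eq_bot_or_eq_top with hk | hk
      · have := hcomp.card_mul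
        rw [hk, Subgroup.card_bot, one_mul, hQeq, hV4', hL60] at this
        omega
      · have := hcomp.card_mul
        rw [hk, Subgroup.card_top, hQeq, hV4', hL60] at this
        omega
    have := Nat.le_of_dvd (by norm_num) hdvd
    interval_cases hk : NQ.index <;> omega
  let act : G →* Equiv.Perm (G ⧸ N) := MulAction.toPermHom G (G ⧸ N)
  have hactker : act.ker = ⊥ := by
    have hKN : act.ker ≤ N := fun x hx => by
      have hx' : act x = 1 := MonoidHom.mem_ker.1 hx
      have := congrArg (fun π : Equiv.Perm (G ⧸ N) => π ((1 : G) : G ⧸ N)) hx'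
      simpa [act, MulAction.toPermHom_apply, QuotientGroup.eq] using this
    have hKL : act.ker ⊓ L = ⊥ := (hLmin _ inferInstance inf_le_right).resolve_right fun h =>
      hVnot ((h ▸ inf_le_left : L ≤ act.ker).trans hKN)
    rw [eq_bot_iff]
    intro x hx
    have hxc : ∀ y ∈ L, x * y = y * x := fun y hy => by
      have : x * y * x⁻¹ * y⁻¹ ∈ act.ker ⊓ L := by
        refine ⟨?_, L.mul_mem (hLn.conj_mem _ hy x) (L.inv_mem hy)⟩
        have := act.ker.mul_mem hx
          (act.normal_ker.conj_mem _ (act.ker.inv_mem hx) y)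
        simpa [mul_assoc] using this
      rw [hKL, Subgroup.mem_bot] at this
      exact mul_inv_eq_iff_eq_mul.1 (mul_inv_eq_one.1 this)
    have hxC : x ∈ C := Subgroup.mem_centralizer_singleton_iff.2 (hxc t htL)
    have hxL : x ∈ L := by
      rcases hcentA x hxC (hxc a haL) with rfl | rfl | rfl | rfl
      exacts [L.one_mem, htL, haL, L.mul_mem haL htL]
    rw [← hKL]
    exact ⟨hx, hxL⟩
  have hinj : Function.Injective act := (MonoidHom.ker_eq_bot_iff act).1 hactker
  have hdiv : Nat.card G ∣ 120 := by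
    have := Subgroup.card_dvd_of_injective act hinj
    rwa [Nat.card_perm, ← Subgroup.index_eq_card, h5] at this
  have h8 : 8 ∣ Nat.card G := hC8 ▸ Subgroup.card_subgroup_dvd_card C
  have h60 : 60 ∣ Nat.card G := hL60 ▸ Subgroup.card_subgroup_dvd_card L
  have h120 : Nat.card G = 120 := by
    have := Nat.lcm_dvd h8 h60
    norm_num [Nat.lcm] at this
    exact Nat.dvd_antisymm hdiv this
  haveI := Fintype.ofFinite (G ⧸ N)
  obtain ⟨ι⟩ : Nonempty (G ⧸ N ≃ Fin 5) :=
    ⟨Fintype.equivFinOfCardEq (by rw [← Nat.card_eq_fintype_card, ← Subgroup.index_eq_card, h5])⟩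
  let f5 : G →* Equiv.Perm (Fin 5) := ι.permCongrHom.toMonoidHom.comp act
  exact ⟨MulEquiv.ofBijective f5 ((Nat.bijective_iff_injective_and_card f5).2
    ⟨ι.permCongrHom.injective.comp hinj, by rw [h120, Nat.card_perm, Nat.card_fin]; rfl⟩)⟩

end CfsgLib.Involutions
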