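/-
No simple group has an elementary abelian Sylow 2-subgroup of order eight, one class of
involutions and an involution centralizer which is `2 × A₄` modulo its core: a column inequality
in the principal 2-block.
-/
import Cfsg.Agent.Lib.Involutions.SectionAverage
import Cfsg.Agent.Lib.Involutions.Counting
import Cfsg.Agent.Lib.Involutions.Basic
import Cfsg.Agent.Lib.BrauerCharacters.ClassMul
import Cfsg.Agent.Lib.CharTheory.Inflation
import Mathlib.Tactic

set_option autoImplicit false
set_option linter.unusedSectionVars false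

open Cfsg
open scoped ComplexConjugate

namespace CfsgLib.Involutions

universe u

/-- A row of the columns at a section with quotient `2 × A₄`: the negative part of its
contribution to a class product is bounded by a quadratic form of total less than one. -/
theorem ree_row_bound (a w : ℤ) (ha1 : -1 ≤ a) (ha2 : a ≤ 1) (hw1 : -2 ≤ w) (hw2 : w ≤ 2) {x : ℝ}
    (hp : 0 < a + w → ((a + w : ℤ) : ℝ) + 8 ≤ x)
    (hn : a + w < 0 → -7 * ((a + w : ℤ) : ℝ) ≤ x) :
    -(((a + w : ℤ) : ℝ) ^ 2 * ((a : ℝ) - (w : ℝ) / 2) / x) ≤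
      17 / 35 * (a : ℝ) ^ 2 + 1 / 10 * (w : ℝ) ^ 2 - 31 / 70 * ((a : ℝ) * w) := by
  rcases lt_trichotomy (a + w) 0 with h | h | h
  · have hb := hn h
    have h' : ((a + w : ℤ) : ℝ) < 0 := by exact_mod_cast h
    have hx : 0 < x := by linarith
    rw [neg_le, le_div_iff₀ hx]
    interval_cases a <;> interval_cases w <;>
      first | omega | (norm_num at hb ⊢ <;> nlinarith [hb, hx])
  · rw [h]
    obtain rfl : w = -a := by omega
    interval_cases a <;> norm_num
  · have hb := hp h
    have h' : (0 : ℝ) < ((a + w : ℤ) : ℝ) := by exact_mod_cast h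
    have hx : 0 < x := by linarith
    rw [neg_le, le_div_iff₀ hx]
    interval_cases a <;> interval_cases w <;>
      first | omega | (norm_num at hb ⊢ <;> nlinarith [hb, hx])

variable {G : Type u} [Group G] [Finite G]

/-- The exclusion: there is no simple group with an elementary abelian Sylow 2-subgroup of order
eight in which all involutions are conjugate and `C(t)/O(C(t)) ≅ 2 × A₄` (given by an element
`v` of order three modulo the core). -/
theorem false_of_two_A4_centralizer [IsSimpleGroup G] (hna : ¬ IsMulCommutative G) (S : Sylow 2 G)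
    (hS8 : Nat.card (S : Subgroup G) = 8) {t : G} (ht : orderOf t = 2)
    (hone : ∀ e ∈ (S : Subgroup G), e ≠ 1 → IsConj t e)
    [Group.IsSolvable (Subgroup.centralizer ({t} : Set G))] {v : G}
    (hvC : v ∈ Subgroup.centralizer ({t} : Set G)) (hvodd : Odd (orderOf v))
    (hv3 : v ^ 3 ∈ centralizerPPrimeCore 2 t)
    (h24 : Nat.card (Subgroup.centralizer ({t} : Set G)) =
      24 * Nat.card (centralizerPPrimeCore 2 t))
    (h6 : Nat.card {x : G // x ∈ Subgroup.centralizer ({t} : Set G) ∧
      x * v * x⁻¹ * v⁻¹ ∈ centralizerPPrimeCore 2 t} = 6 * Nat.card (centralizerPPrimeCore 2 t))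
    (hvO : v ∉ centralizerPPrimeCore 2 t)
    (hreal : ∀ x ∈ Subgroup.centralizer ({t} : Set G),
      x * v * x⁻¹ * v ∉ centralizerPPrimeCore 2 t) :
    False := by
  classical
  haveI : Fact (Nat.Prime 2) := ⟨Nat.prime_two⟩
  haveI := Fintype.ofFinite G
  haveI := Fintype.ofFinite (IrrCharacter G)
  haveI := Fintype.ofFinite (centralizerPPrimeCore 2 t)
  obtain ⟨M, hM⟩ := exists_isPModular (p := 2) Nat.prime_two
  haveI := Blocks.isPrime_of_isPModular hM
  set C := Subgroup.centralizer ({t} : Set G) with hC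
  set O := centralizerPPrimeCore 2 t with hO
  have hOC : O ≤ C := CfsgLib.Balance.centralizerPPrimeCore_le_centralizer 2 t
  have hOn : ∀ c ∈ C, ∀ n ∈ O, c * n * c⁻¹ ∈ O := fun c hc n hn =>
    (Subgroup.mem_normalizer_iff.1
      (CfsgLib.Balance.centralizer_le_normalizer_centralizerPPrimeCore 2 t hc) n).1 hn
  have hOodd : ¬ 2 ∣ Nat.card O := CfsgLib.Balance.not_dvd_card_centralizerPPrimeCore (p := 2) t
  have hO0 : (Nat.card O : ℂ) ≠ 0 := Nat.cast_ne_zero.2 Nat.card_pos.ne'
  have hct : ∀ c ∈ C, Commute t c := fun c hc =>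
    (Subgroup.mem_centralizer_singleton_iff.1 hc).symm
  have htp : orderOf t = 2 ^ 1 := by rw [ht, pow_one]
  have ht1 : t ≠ 1 := fun h => by rw [h, orderOf_one] at ht; omega
  have ho2 : ∀ o ∈ O, ¬ 2 ∣ orderOf o := fun o ho h =>
    hOodd (h.trans (Subgroup.orderOf_dvd_natCard _ ho))
  -- elements of `⟨v⟩ O` have odd order
  set L : Subgroup G := Subgroup.zpowers v ⊔ O with hL
  have hvn : Subgroup.zpowers v ≤ Subgroup.normalizer (O : Set G) :=
    Subgroup.zpowers_le.2 (CfsgLib.Balance.centralizer_le_normalizer_centralizerPPrimeCore 2 t hvC)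
  have hLC : L ≤ C := sup_le (Subgroup.zpowers_le.2 hvC) hOC
  have hvL : v ∈ L := Subgroup.mem_sup_left (Subgroup.mem_zpowers v)
  have hOL : O ≤ L := le_sup_right
  have hLmem : ∀ x ∈ L, ∃ i < 3, ∃ o ∈ O, x = o * v ^ i := by
    intro x hx
    rw [← SetLike.mem_coe, Subgroup.coe_mul_of_left_le_normalizer_right _ _ hvn] at hx
    obtain ⟨a, ha, o, ho, rfl⟩ := Set.mem_mul.1 hx
    obtain ⟨m, rfl⟩ := (mem_powers_iff_mem_zpowers (x := v)).2 ha
    refine ⟨m % 3, Nat.mod_lt _ (by norm_num),
      (v ^ m * o * (v ^ m)⁻¹) * (v ^ 3) ^ (m / 3), ?_, ?_⟩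
    · exact O.mul_mem (hOn _ (pow_mem hvC m) o ho) (pow_mem hv3 _)
    · show v ^ m * o = _
      rw [mul_assoc (v ^ m * o * (v ^ m)⁻¹), ← pow_mul, ← pow_add, Nat.div_add_mod,
        inv_mul_cancel_right]
  have hLodd : ∀ x ∈ L, ¬ 2 ∣ orderOf x := by
    intro x hx h2
    obtain ⟨i, -, o, ho, rfl⟩ := hLmem x hx
    -- the image in `L / O` is a power of `v`, of odd order
    have h1 : (o * v ^ i) ^ orderOf v ∈ O := by
      have key : ∀ k : ℕ, ∃ o' ∈ O, (o * v ^ i) ^ k = o' * (v ^ i) ^ k := by
        intro k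
        induction k with
        | zero => exact ⟨1, O.one_mem, by simp⟩
        | succ k ih =>
          obtain ⟨o', ho', e⟩ := ih
          refine ⟨o' * ((v ^ i) ^ k * o * ((v ^ i) ^ k)⁻¹),
            O.mul_mem ho' (hOn _ (pow_mem (pow_mem hvC i) k) o ho), ?_⟩
          rw [pow_succ, e, pow_succ]
          group
      obtain ⟨o', ho', e⟩ := key (orderOf v)
      rw [e, ← pow_mul, mul_comm i, pow_mul, pow_orderOf_eq_one, one_pow, mul_one]
      exact ho'
    have h3 : (o * v ^ i) ^ (orderOf v * Nat.card O) = 1 := by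
      rw [pow_mul]
      have := Subgroup.orderOf_dvd_natCard _ h1
      exact orderOf_dvd_iff_pow_eq_one.1 this
    rcases (Nat.prime_two.dvd_mul).1 (h2.trans (orderOf_dvd_of_pow_eq_one h3)) with h | h
    · exact (Nat.not_even_iff_odd.2 hvodd) (even_iff_two_dvd.2 h)
    · exact hOodd h
  have hv2' : v⁻¹ ∈ L := L.inv_mem hvL
  -- the 2-part of `t y` is `t`
  have hsect : ∀ x y y' : G, y ∈ L → y' ∈ L → x * (t * y) * x⁻¹ = t * y' →
      x ∈ C ∧ x * y * x⁻¹ = y' := by
    intro x y y' hy hy' e
    set m := orderOf y * orderOf y' with hm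
    have hmo : Odd m := (Nat.odd_iff.2 (Nat.two_dvd_ne_zero.1 (hLodd y hy))).mul
      (Nat.odd_iff.2 (Nat.two_dvd_ne_zero.1 (hLodd y' hy')))
    have htm : t ^ m = t := by
      obtain ⟨k, hk⟩ := hmo
      rw [hk, pow_succ, pow_mul, ← ht, pow_orderOf_eq_one, one_pow, one_mul]
    have e2 := congrArg (· ^ m) e
    simp only [conj_pow, (hct y (hLC hy)).mul_pow, (hct y' (hLC hy')).mul_pow, htm] at e2
    rw [orderOf_dvd_iff_pow_eq_one.1 (dvd_mul_right (orderOf y) (orderOf y')),
      orderOf_dvd_iff_pow_eq_one.1 (dvd_mul_left (orderOf y') (orderOf y)), mul_one] at e2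
    have hxC : x ∈ C := by
      rw [hC, Subgroup.mem_centralizer_singleton_iff]
      exact mul_inv_eq_iff_eq_mul.1 e2
    refine ⟨hxC, mul_left_cancel (a := t) (Eq.trans ?_ e)⟩
    simp only [← mul_assoc]
    rw [(hct x hxC).eq]
  -- column orthogonality summed over a coset
  have hgram : ∀ y ∈ L, ∀ y' ∈ L,
      (∑ χ : IrrCharacter G, (χ : G → ℂ) (t * y) *
          conj (∑ o : O, (χ : G → ℂ) (t * ((o : G) * y')))) =
        (Nat.card {x : G // x ∈ C ∧ x * y * x⁻¹ * y'⁻¹ ∈ O} : ℂ) := by
    intro y hy y' hy'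
    simp only [map_sum, Finset.mul_sum]
    rw [Finset.sum_comm]
    have hterm : ∀ o : O, (∑ χ : IrrCharacter G, (χ : G → ℂ) (t * y) *
        conj ((χ : G → ℂ) (t * ((o : G) * y')))) =
        (Nat.card {x : G // x ∈ C ∧ x * y * x⁻¹ = (o : G) * y'} : ℂ) := by
      intro o
      rw [CharTheory.sum_mul_conj]
      split_ifs with hc
      · obtain ⟨a, ha⟩ := isConj_iff.1 hc
        rw [← card_conj_eq_card_centralizer ha]
        congr 1
        refine Nat.card_congr (Equiv.subtypeEquivRight fun x => ⟨fun hx =>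
          hsect x y _ hy (L.mul_mem (hOL o.2) hy') hx, fun hx => ?_⟩)
        rw [← mul_assoc, ← (hct x hx.1).eq, mul_assoc, mul_assoc, ← mul_assoc x, hx.2]
      · rw [eq_comm, Nat.cast_eq_zero, Nat.card_eq_zero]
        refine Or.inl ⟨fun x => hc (isConj_iff.2 ⟨x.1, ?_⟩)⟩
        rw [← mul_assoc, ← (hct x.1 x.2.1).eq, mul_assoc, mul_assoc, ← mul_assoc x.1, x.2.2]
    simp only [hterm]
    rw [← Nat.cast_sum, ← Nat.card_sigma]
    refine congrArg _ (Nat.card_congr ⟨fun q => ⟨q.2.1, q.2.2.1, by
      rw [q.2.2.2, mul_inv_cancel_right]; exact q.1.2⟩,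
      fun x => ⟨⟨x.1 * y * x.1⁻¹ * y'⁻¹, x.2.2⟩, x.1, x.2.1, by
        rw [inv_mul_cancel_right]⟩, fun q => ?_, fun x => rfl⟩)
    obtain ⟨⟨o, ho⟩, x, hx, e⟩ := q
    simp only
    have : x * y * x⁻¹ * y'⁻¹ = o := by rw [e, mul_inv_cancel_right]
    subst this
    rfl
  -- the principal block
  set B := principalBlock M G with hB
  have hBconst : ∀ χ ∈ B, ∀ o ∈ O, ∀ y ∈ L,
      (χ : G → ℂ) (t * (o * y)) = (χ : G → ℂ) (t * y) := fun χ hχ o ho y hy =>
    apply_coset_eq hM hχ htp ht1 (hct y (hLC hy)) (hLodd y hy)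
      (hLodd _ (L.mul_mem (hOL ho) hy)) ho
  have hnotB : ∀ χ ∉ B, ∀ y ∈ L, ∑ o : O, (χ : G → ℂ) (t * ((o : G) * y)) = 0 :=
    fun χ hχ y hy => sum_coset_section_eq_zero hM hχ ⟨1, htp⟩ (hLC hy) (hLodd y hy)
  set Bf := Finset.univ.filter (fun χ : IrrCharacter G => χ ∈ B) with hBf
  have hred : ∀ y ∈ L, ∀ f : IrrCharacter G → ℂ,
      (∑ χ : IrrCharacter G, f χ * conj (∑ o : O, (χ : G → ℂ) (t * ((o : G) * y)))) =
        (Nat.card O : ℂ) * ∑ χ ∈ Bf, f χ * conj ((χ : G → ℂ) (t * y)) := by
    intro y hy f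
    rw [Finset.mul_sum, hBf, Finset.sum_filter]
    refine Finset.sum_congr rfl fun χ _ => ?_
    split_ifs with hχ
    · rw [Finset.sum_congr rfl fun (o : O) _ => hBconst χ hχ o o.2 y hy, Finset.sum_const,
        Finset.card_univ, ← Nat.card_eq_fintype_card, nsmul_eq_mul, map_mul, map_natCast]
      ring
    · rw [hnotB χ hχ y hy, map_zero, mul_zero]
  have hG : ∀ y ∈ L, ∀ y' ∈ L, ∀ n : ℕ,
      Nat.card {x : G // x ∈ C ∧ x * y * x⁻¹ * y'⁻¹ ∈ O} = n * Nat.card O →
      ∑ χ ∈ Bf, (χ : G → ℂ) (t * y) * conj ((χ : G → ℂ) (t * y')) = n := by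
    intro y hy y' hy' n hn
    have h := hgram y hy y' hy'
    rw [hred y' hy', hn, Nat.cast_mul, mul_comm (n : ℂ)] at h
    exact mul_left_cancel₀ hO0 h
  have hconjv : ∀ x ∈ C, x * v * x⁻¹ ∉ O := fun x hx h => hvO (by
    have := hOn x⁻¹ (C.inv_mem hx) _ h
    rwa [inv_inv, show x⁻¹ * (x * v * x⁻¹) * x = v by group] at this)
  have gss := hG 1 L.one_mem 1 L.one_mem 24 (by
    rw [← h24]
    exact Nat.card_congr (Equiv.subtypeEquivRight fun x => by simp [O.one_mem]))
  have gvv := hG v hvL v hvL 6 h6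
  have gsv := hG v hvL 1 L.one_mem 0 (by
    rw [zero_mul, Nat.card_eq_zero]
    exact Or.inl ⟨fun x => hconjv x.1 x.2.1 (by simpa using x.2.2)⟩)
  have gvw := hG v hvL v⁻¹ hv2' 0 (by
    rw [zero_mul, Nat.card_eq_zero]
    exact Or.inl ⟨fun x => hreal x.1 x.2.1 (by simpa using x.2.2)⟩)
  set A : IrrCharacter G → ℂ := fun χ => (χ : G → ℂ) (t * v) with hA
  set s : IrrCharacter G → ℂ := fun χ => (χ : G → ℂ) t with hs
  have hst : ∀ χ : IrrCharacter G, conj (s χ) = s χ := fun χ => by
    rw [hs, BrauerCharacters.conj_apply, inv_eq_self ht]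
  have hAinv : ∀ χ : IrrCharacter G, conj (A χ) = (χ : G → ℂ) (t * v⁻¹) := fun χ => by
    rw [hA, BrauerCharacters.conj_apply, mul_inv_rev, inv_eq_self ht,
      ((hct v hvC).symm.inv_left).eq]
  simp only [mul_one] at gss gsv
  -- the trivial character
  set one : IrrCharacter G := CharTheory.trivIrr G with hone'
  have honeB : one ∈ Bf := by
    rw [hBf, Finset.mem_filter]
    exact ⟨Finset.mem_univ _, BlockLocal.trivIrr_mem_principalBlock G⟩
  -- a class product that does not occur
  have hprod : ∑ χ ∈ Bf, s χ * s χ * conj (A χ) / (χ : G → ℂ) 1 = 0 := by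
    have hzero : ∀ g : G, (∃ o ∈ O, g = t * (o * v⁻¹)) →
        ∑ χ : IrrCharacter G, s χ * s χ / (χ : G → ℂ) 1 * (χ : G → ℂ) g = 0 := by
      rintro g ⟨o, ho, rfl⟩
      have h := BrauerCharacters.sum_weight_pairs t t
        (fun w : G => if w = t * (o * v⁻¹) then (1 : ℂ) else 0)
      simp only [ite_mul, one_mul, zero_mul, Finset.sum_ite_eq', Finset.mem_univ, if_true] at h
      rw [Finset.card_eq_zero.2 (Finset.eq_empty_iff_forall_notMem.2 ?_)] at h
      · have hi : ((Subgroup.centralizer ({t} : Set G)).index : ℂ) ≠ 0 := by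
          exact_mod_cast Subgroup.index_ne_zero_of_finite
        rw [Nat.cast_zero, eq_comm, mul_eq_zero] at h
        have h' := h.resolve_left (div_ne_zero hi (Nat.cast_ne_zero.2 Nat.card_pos.ne'))
        rw [← mul_right_inj' hi, mul_zero, ← h', Finset.mul_sum]
        refine Finset.sum_congr rfl fun χ _ => ?_
        show _ = centralChar (χ : G → ℂ) t * conj (s χ) * _
        rw [hst, centralChar]
        ring
      · intro x hxF
        simp only [Finset.mem_filter, Finset.mem_univ, true_and] at hxF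
        obtain ⟨h1, h2⟩ := hxF
        set y := o * v⁻¹ with hy
        have hyL : y ∈ L := L.mul_mem (hOL ho) hv2'
        obtain ⟨c, hc⟩ := isConj_iff.1 h1
        obtain ⟨d, hd⟩ := isConj_iff.1 h2
        have hx2 : orderOf x = 2 := by rw [← hc, orderOf_conj, ht]
        have hxy : orderOf (x * (t * y)) = 2 := by rw [← hd, orderOf_conj, ht]
        have e : x * (t * y) * x⁻¹ = t * y⁻¹ := by
          have e2 := mul_self_eq_one hxy
          rw [inv_eq_self hx2, ((hct y (hLC hyL)).inv_right).eq,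
            ← show (t * y)⁻¹ = y⁻¹ * t by rw [mul_inv_rev, inv_eq_self ht]]
          refine eq_inv_of_mul_eq_one_left ?_
          rwa [mul_assoc]
        obtain ⟨hxC, hxy'⟩ := hsect x y y⁻¹ hyL (L.inv_mem hyL) e
        refine hreal x hxC ?_
        -- `x v⁻¹ x⁻¹` is `v` modulo the core
        have hv' : x * v⁻¹ * x⁻¹ = (x * o * x⁻¹)⁻¹ * (v * o⁻¹) := by
          rw [eq_inv_mul_iff_mul_eq]
          calc x * o * x⁻¹ * (x * v⁻¹ * x⁻¹) = x * y * x⁻¹ := by rw [hy]; group
            _ = v * o⁻¹ := by rw [hxy', hy]; group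
        have hv'' := congrArg (fun z => z⁻¹ * v) hv'
        simp only [mul_inv_rev, inv_inv, mul_assoc] at hv'' ⊢
        rw [hv'']
        have := O.mul_mem ho (hOn v⁻¹ (C.inv_mem hvC) _ (hOn x hxC o ho))
        simpa [mul_assoc] using this
    have h := hred v hvL (fun χ => s χ * s χ / (χ : G → ℂ) 1)
    rw [eq_comm] at h
    have hl : ∑ χ : IrrCharacter G, s χ * s χ / (χ : G → ℂ) 1 *
        conj (∑ o : O, (χ : G → ℂ) (t * ((o : G) * v))) = 0 := by
      simp only [map_sum, Finset.mul_sum]
      rw [Finset.sum_comm]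
      refine Finset.sum_eq_zero fun o _ => ?_
      simp only [BrauerCharacters.conj_apply]
      refine hzero _ ⟨v⁻¹ * (o : G)⁻¹ * v, ?_, ?_⟩
      · simpa using hOn v⁻¹ (C.inv_mem hvC) _ (O.inv_mem o.2)
      · rw [mul_inv_rev, inv_eq_self ht, mul_inv_rev,
          ← (hct _ (C.mul_mem (C.inv_mem hvC) (C.inv_mem (hOC o.2)))).eq, mul_inv_cancel_right]
    rw [hl, mul_eq_zero] at h
    rw [← h.resolve_left hO0]
    exact Finset.sum_congr rfl fun χ _ => by rw [hA]; ring
  -- integrality
  have hint : ∀ χ ∈ Bf, ∃ m w k : ℤ, s χ = ((m + w : ℤ) : ℂ) ∧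
      3 * (m : ℂ) = s χ + A χ + conj (A χ) ∧
      (charDegree (χ : G → ℂ) : ℤ) + 7 * (m + w) = 8 * k ∧ 0 ≤ k := by
    intro χ hχ
    rw [hBf, Finset.mem_filter] at hχ
    have hχB := hχ.2
    -- integrality at an involution and on the Sylow subgroup
    obtain ⟨k, hk⟩ := BrauerCharacters.exists_nat_sum_subgroup χ (S : Subgroup G)
    have hsum : ∑ u : G, (if u ∈ (S : Subgroup G) then (1 : ℂ) else 0) * (χ : G → ℂ) u =
        (charDegree (χ : G → ℂ) : ℂ) + 7 * s χ := by
      simp only [ite_mul, one_mul, zero_mul, ← Finset.sum_filter]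
      have hmem : (1 : G) ∈ Finset.univ.filter (fun u => u ∈ (S : Subgroup G)) := by simp
      rw [← Finset.add_sum_erase _ _ hmem,
        ← CfsgLib.ZerosCodegree.irr_apply_one_eq]
      congr 1
      rw [Finset.sum_congr rfl (g := fun _ => s χ) (fun u hu => by
        rw [Finset.mem_erase, Finset.mem_filter] at hu
        exact (CharTheory.irr_apply_eq_of_isConj (hone u hu.2.2 hu.1) χ).symm), Finset.sum_const,
        Finset.card_erase_of_mem hmem, nsmul_eq_mul]
      have : (Finset.univ.filter (fun u => u ∈ (S : Subgroup G))).card = 8 := by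
        rw [← hS8, Nat.card_eq_fintype_card, Fintype.card_subtype]
      rw [this]
      norm_num
    rw [hsum, hS8] at hk
    -- the subgroup `L` and its extension by `t`
    obtain ⟨n1, hn1⟩ := BrauerCharacters.exists_nat_sum_subgroup χ L
    have htL : t ∉ L := fun h => hLodd t h (by rw [ht])
    let K : Subgroup G :=
      { carrier := {g | g ∈ L ∨ t * g ∈ L}
        one_mem' := Or.inl L.one_mem
        mul_mem' := by
          intro a b ha hb
          show _ ∨ _
          rcases ha with ha | ha <;> rcases hb with hb | hb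
          · exact Or.inl (L.mul_mem ha hb)
          · right
            rw [← mul_assoc, (hct a (hLC ha)).eq, mul_assoc]
            exact L.mul_mem ha hb
          · right
            rw [← mul_assoc]
            exact L.mul_mem ha hb
          · left
            have := L.mul_mem ha hb
            rwa [← mul_assoc, (hct _ (hLC ha)).symm.eq, ← mul_assoc t t a, mul_self_eq_one ht,
              one_mul] at this
        inv_mem' := by
          intro a ha
          show _ ∨ _
          rcases ha with ha | ha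
          · exact Or.inl (L.inv_mem ha)
          · right
            have htC : t ∈ C := Subgroup.mem_centralizer_singleton_iff.2 rfl
            have haC : a ∈ C := (C.mul_mem_cancel_left htC).1 (hLC ha)
            have hb := L.inv_mem ha
            rw [mul_inv_rev, inv_eq_self ht] at hb
            rwa [(hct a haC).inv_right.eq] }
    obtain ⟨n2, hn2⟩ := BrauerCharacters.exists_nat_sum_subgroup χ K
    have hsplit : ∀ f : G → ℂ, ∑ u : G, (if u ∈ K then (1 : ℂ) else 0) * f u =
        (∑ u : G, (if u ∈ L then (1 : ℂ) else 0) * f u) +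
          ∑ u : G, (if u ∈ L then (1 : ℂ) else 0) * f (t * u) := by
      intro f
      have e : ∑ u : G, (if u ∈ L then (1 : ℂ) else 0) * f (t * u) =
          ∑ u : G, (if t * u ∈ L then (1 : ℂ) else 0) * f u :=
        Fintype.sum_equiv (Equiv.mulLeft t) _ _ fun u => by
          simp [← mul_assoc, mul_self_eq_one ht]
      rw [e, ← Finset.sum_add_distrib]
      refine Finset.sum_congr rfl fun u _ => ?_
      have hK : u ∈ K ↔ u ∈ L ∨ t * u ∈ L := Iff.rfl
      rw [← add_mul]
      congr 1
      by_cases h1 : u ∈ L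
      · have h2 : t * u ∉ L := fun h => htL ((L.mul_mem_cancel_right h1).1 h)
        simp [hK, h1, h2]
      · simp [hK, h1]
    have hLcard : Nat.card K = 2 * Nat.card L := by
      have := hsplit (fun _ => 1)
      simp only [mul_one, Finset.sum_boole] at this
      rw [← Nat.cast_add, Nat.cast_inj] at this
      rw [Nat.card_eq_fintype_card, Fintype.card_subtype, Nat.card_eq_fintype_card,
        Fintype.card_subtype, this]
      ring
    -- the values on `t L`
    have hLsum : ∑ u : G, (if u ∈ L then (1 : ℂ) else 0) * (χ : G → ℂ) (t * u) =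
        (Nat.card O : ℂ) * (s χ + A χ + conj (A χ)) ∧ Nat.card L = 3 * Nat.card O := by
      let e : Fin 3 × O ≃ L := Equiv.ofBijective
        (fun q => ⟨(q.2 : G) * v ^ (q.1 : ℕ), L.mul_mem (hOL q.2.2) (pow_mem hvL _)⟩) ⟨?_, ?_⟩
      · have hval : ∀ q : Fin 3 × O, (χ : G → ℂ) (t * ((e q : L) : G)) =
            (χ : G → ℂ) (t * v ^ (q.1 : ℕ)) := fun q =>
          hBconst χ hχB _ q.2.2 _ (pow_mem hvL _)
        constructor
        · simp only [ite_mul, one_mul, zero_mul, ← Finset.sum_filter]
          rw [Finset.sum_subtype (Finset.univ.filter (· ∈ L)) (p := (· ∈ L)) (by simp),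
            ← e.sum_comp]
          simp only [hval]
          rw [Fintype.sum_prod_type]
          simp only [Finset.sum_const, Finset.card_univ, ← Nat.card_eq_fintype_card,
            nsmul_eq_mul, ← Finset.mul_sum]
          rw [Fin.sum_univ_three]
          simp only [Fin.val_zero, Fin.val_one, Fin.val_two, pow_zero, pow_one, mul_one]
          have hv2 : (χ : G → ℂ) (t * v ^ 2) = conj (A χ) := by
            rw [hAinv, ← hBconst χ hχB (v ^ 3) hv3 v⁻¹ hv2']
            congr 1
            group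
          rw [hv2]
        · rw [← Nat.card_congr e, Nat.card_prod, Nat.card_fin]
      · rintro ⟨i, o⟩ ⟨j, o'⟩ h
        have h' : (o : G) * v ^ (i : ℕ) = (o' : G) * v ^ (j : ℕ) := congrArg Subtype.val h
        have hij : ∀ a b : ℕ, a ≤ b → b < 3 → v ^ a * (v ^ b)⁻¹ ∈ O → a = b := by
          intro a b hab hb hm
          have hm' : v ^ (b - a) ∈ O := by
            have := O.inv_mem hm
            rwa [mul_inv_rev, inv_inv, ← pow_sub v hab] at this
          rcases Nat.eq_zero_or_pos (b - a) with h0 | h0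
          · omega
          · exfalso
            have : b - a = 1 ∨ b - a = 2 := by omega
            rcases this with h1 | h1 <;> rw [h1] at hm'
            · exact hvO (by simpa using hm')
            · refine hvO ?_
              have := O.mul_mem hv3 (O.inv_mem hm')
              rwa [show v ^ 3 * (v ^ 2)⁻¹ = v by group] at this
        have hm : v ^ (i : ℕ) * (v ^ (j : ℕ))⁻¹ ∈ O := by
          rw [show v ^ (i : ℕ) * (v ^ (j : ℕ))⁻¹ = (o : G)⁻¹ * ((o' : G) * v ^ (j : ℕ)) *
            (v ^ (j : ℕ))⁻¹ by rw [← h']; group, mul_assoc, mul_inv_cancel_right]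
          exact O.mul_mem (O.inv_mem o.2) o'.2
        have hij' : (i : ℕ) = j := by
          rcases le_total (i : ℕ) j with hle | hle
          · exact hij _ _ hle j.2 hm
          · refine (hij _ _ hle i.2 ?_).symm
            have := O.inv_mem hm
            rwa [mul_inv_rev, inv_inv] at this
        obtain rfl : i = j := Fin.ext hij'
        simp only [Prod.mk.injEq, true_and]
        exact Subtype.ext (mul_right_cancel h')
      · rintro ⟨x, hx⟩
        obtain ⟨i, hi, o, ho, rfl⟩ := hLmem x hx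
        exact ⟨(⟨i, hi⟩, ⟨o, ho⟩), rfl⟩
    rw [hsplit, hn1, hLsum.1, hLcard, hLsum.2] at hn2
    push_cast at hn2
    obtain ⟨n3, hn3⟩ := BrauerCharacters.exists_nat_sum_subgroup χ (Subgroup.zpowers t)
    have hts : ∑ u : G, (if u ∈ Subgroup.zpowers t then (1 : ℂ) else 0) * (χ : G → ℂ) u =
        (charDegree (χ : G → ℂ) : ℂ) + s χ := by
      simp only [ite_mul, one_mul, zero_mul, ← Finset.sum_filter]
      rw [show Finset.univ.filter (fun u => u ∈ Subgroup.zpowers t) = {1, t} from ?_,
        Finset.sum_pair (Ne.symm ht1), CfsgLib.ZerosCodegree.irr_apply_one_eq]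
      ext u
      simp only [Finset.mem_filter, Finset.mem_univ, true_and, Finset.mem_insert,
        Finset.mem_singleton]
      refine ⟨fun h => ?_, fun h => ?_⟩
      · obtain ⟨m, rfl⟩ := (mem_powers_iff_mem_zpowers (x := t)).2 h
        rcases Nat.even_or_odd' m with ⟨l, rfl | rfl⟩
        · left; show t ^ (2 * l) = 1
          rw [pow_mul, ← ht, pow_orderOf_eq_one, one_pow]
        · right; show t ^ (2 * l + 1) = t
          rw [pow_succ, pow_mul, ← ht, pow_orderOf_eq_one, one_pow, one_mul]
      · rcases h with rfl | rfl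
        · exact Subgroup.one_mem _
        · exact Subgroup.mem_zpowers _
    rw [hts, Nat.card_zpowers, ht, Nat.cast_ofNat] at hn3
    rw [hLsum.2] at hn1
    set x := charDegree (χ : G → ℂ)
    have hsval : s χ = ((2 * (n3 : ℤ) - x : ℤ) : ℂ) := by
      push_cast
      linear_combination hn3
    refine ⟨2 * (n2 : ℤ) - n1, (2 * (n3 : ℤ) - x) - (2 * (n2 : ℤ) - n1), k, ?_, ?_, ?_,
      Int.natCast_nonneg k⟩
    · rw [hsval]; congr 1; ring
    · push_cast at hn1
      refine mul_left_cancel₀ hO0 ?_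
      push_cast
      linear_combination -hn2
    · have : ((x : ℤ) + 7 * (2 * (n3 : ℤ) - x) : ℂ) = ((8 * k : ℤ) : ℂ) := by
        push_cast
        rw [hsval] at hk
        push_cast at hk
        linear_combination hk
      rw [add_sub_cancel]
      exact_mod_cast this
  choose! am wm km hsm ham hkm hk0 using hint
  set r : IrrCharacter G → ℝ := fun χ => (am χ : ℝ) - (wm χ : ℝ) / 2 with hr
  have hrA : ∀ χ ∈ Bf, A χ + conj (A χ) = ((2 * r χ : ℝ) : ℂ) := fun χ hχ => by
    have e1 := hsm χ hχ
    have e2 := ham χ hχ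
    rw [hr]
    push_cast at e1 ⊢
    linear_combination -e2 - e1
  -- sums over the block in terms of `a` and `w`
  have gvv' : ∑ χ ∈ Bf, A χ * conj (A χ) = 6 := by simpa [hA] using gvv
  have gvw' : ∑ χ ∈ Bf, A χ * A χ = 0 := by
    rw [← Nat.cast_zero, ← gvw]
    exact Finset.sum_congr rfl fun χ _ => by rw [← hAinv, Complex.conj_conj]
  have gvw'' : ∑ χ ∈ Bf, conj (A χ) * conj (A χ) = 0 := by
    have := congrArg (starRingEnd ℂ) gvw'
    simpa [map_sum, map_mul] using this
  have gsv' : ∑ χ ∈ Bf, A χ * s χ = 0 := by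
    rw [← Nat.cast_zero, ← gsv]
    exact Finset.sum_congr rfl fun χ _ => by rw [← hst χ]
  have gsv'' : ∑ χ ∈ Bf, conj (A χ) * s χ = 0 := by
    have := congrArg (starRingEnd ℂ) gsv'
    simpa [map_sum, map_mul, hst] using this
  have gss' : ∑ χ ∈ Bf, s χ * s χ = 24 := by
    rw [show (24 : ℂ) = ((24 : ℕ) : ℂ) by norm_num, ← gss]
    exact Finset.sum_congr rfl fun χ _ => by rw [hs]; simp only; rw [hst χ]
  have haa : ∑ χ ∈ Bf, am χ * am χ = 4 := by
    have : ((∑ χ ∈ Bf, am χ * am χ : ℤ) : ℂ) * 9 = 4 * 9 := by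
      rw [show (4 : ℂ) * 9 = ∑ χ ∈ Bf, (s χ * s χ + 2 * (A χ * s χ) + 2 * (conj (A χ) * s χ) +
          A χ * A χ + 2 * (A χ * conj (A χ)) + conj (A χ) * conj (A χ)) by
        simp only [Finset.sum_add_distrib, ← Finset.mul_sum, gss', gsv', gsv'', gvw', gvw'', gvv']
        norm_num]
      push_cast
      rw [Finset.sum_mul]
      refine Finset.sum_congr rfl fun χ hχ => ?_
      linear_combination (3 * (am χ : ℂ) + (s χ + A χ + conj (A χ))) * ham χ hχ
    exact_mod_cast mul_right_cancel₀ (by norm_num) this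
  have haw : ∑ χ ∈ Bf, am χ * wm χ = 4 := by
    have : ((∑ χ ∈ Bf, am χ * wm χ : ℤ) : ℂ) * 9 = 4 * 9 := by
      rw [show (4 : ℂ) * 9 = ∑ χ ∈ Bf, (2 * (s χ * s χ) + 1 * (A χ * s χ) + 1 * (conj (A χ) * s χ)
          + (-1) * (A χ * A χ) + (-2) * (A χ * conj (A χ)) + (-1) * (conj (A χ) * conj (A χ))) by
        simp only [Finset.sum_add_distrib, ← Finset.mul_sum, gss', gsv', gsv'', gvw', gvw'', gvv']
        norm_num]
      push_cast
      rw [Finset.sum_mul]
      refine Finset.sum_congr rfl fun χ hχ => ?_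
      have e1 := hsm χ hχ
      push_cast at e1
      linear_combination (3 * (wm χ : ℂ)) * ham χ hχ +
        (-3 * (s χ + A χ + conj (A χ))) * e1 + (-(s χ + A χ + conj (A χ))) * ham χ hχ
    exact_mod_cast mul_right_cancel₀ (by norm_num) this
  have hww : ∑ χ ∈ Bf, wm χ * wm χ = 12 := by
    have : ((∑ χ ∈ Bf, wm χ * wm χ : ℤ) : ℂ) * 9 = 12 * 9 := by
      rw [show (12 : ℂ) * 9 = ∑ χ ∈ Bf, (4 * (s χ * s χ) + (-4) * (A χ * s χ) +
          (-4) * (conj (A χ) * s χ) + A χ * A χ + 2 * (A χ * conj (A χ)) +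
            conj (A χ) * conj (A χ)) by
        simp only [Finset.sum_add_distrib, ← Finset.mul_sum, gss', gsv', gsv'', gvw', gvw'', gvv']
        norm_num]
      push_cast
      rw [Finset.sum_mul]
      refine Finset.sum_congr rfl fun χ hχ => ?_
      have e1 := hsm χ hχ
      push_cast at e1
      have e3 : 3 * (wm χ : ℂ) = 2 * s χ - A χ - conj (A χ) := by
        linear_combination -3 * e1 - ham χ hχ
      linear_combination (3 * (wm χ : ℂ) + (2 * s χ - A χ - conj (A χ))) * e3
    exact_mod_cast mul_right_cancel₀ (by norm_num) this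
  have hone_s : s one = 1 := CharTheory.trivIrr_apply t
  have hone_A : A one = 1 := CharTheory.trivIrr_apply _
  have hone_a : am one = 1 ∧ wm one = 0 := by
    have e1 := hsm one honeB
    have e2 := ham one honeB
    rw [hone_s] at e1
    rw [hone_s, hone_A, map_one] at e2
    have h1 : am one = 1 := by
      have : (3 * (am one : ℂ)) = 3 * ((1 : ℤ) : ℂ) := by rw [e2]; norm_num
      exact_mod_cast mul_left_cancel₀ (by norm_num) this
    refine ⟨h1, ?_⟩
    rw [h1] at e1
    have : ((1 + wm one : ℤ) : ℂ) = ((1 : ℤ) : ℂ) := by rw [← e1]; norm_num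
    have := Int.cast_injective this
    omega
  -- bounds for the other rows
  set rest := Bf.erase one with hrest
  have hrestB : ∀ χ ∈ rest, χ ∈ Bf := fun χ h => Finset.mem_of_mem_erase h
  have hra : ∑ χ ∈ rest, am χ * am χ = 3 := by
    have := Finset.add_sum_erase Bf (fun χ => am χ * am χ) honeB
    rw [haa, hone_a.1] at this
    linarith
  have hrw' : ∑ χ ∈ rest, wm χ * wm χ = 12 := by
    have := Finset.add_sum_erase Bf (fun χ => wm χ * wm χ) honeB
    rw [hww, hone_a.2] at this
    linarith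
  have hraw : ∑ χ ∈ rest, am χ * wm χ = 4 := by
    have := Finset.add_sum_erase Bf (fun χ => am χ * wm χ) honeB
    rw [haw, hone_a.2] at this
    linarith
  have ha1 : ∀ χ ∈ rest, -1 ≤ am χ ∧ am χ ≤ 1 := fun χ hχ => by
    have := Finset.single_le_sum (f := fun χ => am χ * am χ) (fun φ _ => mul_self_nonneg _) hχ
    rw [hra] at this
    constructor <;> nlinarith
  have hw1 : ∀ χ ∈ rest, -2 ≤ wm χ ∧ wm χ ≤ 2 := by
    intro χ hχ
    have hle := Finset.single_le_sum (f := fun χ => wm χ * wm χ) (fun φ _ => mul_self_nonneg _) hχ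
    rw [hrw'] at hle
    by_contra hcon
    have habs : wm χ = 3 ∨ wm χ = -3 := by
      have h1 : -4 < wm χ := by nlinarith
      have h2 : wm χ < 4 := by nlinarith
      omega
    let χ' : IrrCharacter G := ⟨fun g => conj ((χ : G → ℂ) g),
      CharTheory.isIrrCharacter_conj χ.2⟩
    have hχ's : s χ' = s χ := hst χ
    have hχ'A : A χ' = conj (A χ) := rfl
    have hχB : χ ∈ B := (Finset.mem_filter.1 (hrestB χ hχ)).2
    by_cases hreq : χ' = χ
    · -- a real row: `A χ` is an algebraic integer with odd double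
      have hAr : conj (A χ) = A χ := by rw [← hχ'A, hreq]
      have e := hrA χ (hrestB χ hχ)
      rw [hAr, ← two_mul] at e
      have hAi : IsIntegral ℤ (A χ) := BrauerCharacters.isIntegral_apply χ _
      have hrat : A χ = (((2 * am χ - wm χ : ℤ) : ℚ) / 2 : ℚ) := by
        refine mul_left_cancel₀ (two_ne_zero (α := ℂ)) (e.trans ?_)
        rw [hr]
        push_cast
        ring
      rw [hrat] at hAi
      obtain ⟨z, hz⟩ := CharTheory.exists_int_of_isIntegral_ratCast hAi
      have : (2 * am χ - wm χ : ℤ) = 2 * z := by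
        have h2 : (((2 * am χ - wm χ : ℤ) : ℚ)) = ((2 * z : ℤ) : ℚ) := by
          push_cast at hz ⊢
          linarith
        exact_mod_cast h2
      omega
    · -- a complex row occurs twice
      have hχ'B : χ' ∈ Bf := by
        rw [hBf, Finset.mem_filter]
        refine ⟨Finset.mem_univ _, by_contra fun hn => ?_⟩
        have h0 := hnotB χ' hn v hvL
        have h1 := hnotB χ' hn 1 L.one_mem
        simp only [χ', mul_one, ← map_sum, map_eq_zero] at h0 h1
        rw [Finset.sum_congr rfl fun (o : O) _ => hBconst χ hχB o o.2 v hvL] at h0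
        rw [Finset.sum_congr rfl fun (o : O) _ => by
          simpa using hBconst χ hχB o o.2 1 L.one_mem] at h1
        simp only [Finset.sum_const, Finset.card_univ, ← Nat.card_eq_fintype_card, nsmul_eq_mul,
          mul_eq_zero, hO0, false_or] at h0 h1
        have e := ham χ (hrestB χ hχ)
        have e1 := hsm χ (hrestB χ hχ)
        simp only [hs, hA] at e e1
        rw [h1, h0, map_zero] at e
        rw [h1] at e1
        have ha0 : am χ = 0 := by
          have : (am χ : ℂ) = 0 := by linear_combination e / 3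
          exact_mod_cast this
        have : am χ + wm χ = 0 := by exact_mod_cast e1.symm
        omega
      have hae : am χ' = am χ := by
        have e := ham χ' hχ'B
        rw [hχ's, hχ'A, Complex.conj_conj, add_right_comm, ← ham χ (hrestB χ hχ)] at e
        exact_mod_cast mul_left_cancel₀ (by norm_num) e
      have hwe : wm χ' = wm χ := by
        have e := hsm χ' hχ'B
        rw [hχ's, hsm χ (hrestB χ hχ), hae] at e
        have := Int.cast_injective e
        omega
      have hne1 : χ' ≠ one := fun h => by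
        rw [h, hone_a.2] at hwe
        omega
      have h2 := Finset.sum_le_sum_of_subset_of_nonneg
        (f := fun χ => wm χ * wm χ) (s := {χ, χ'}) (t := rest) (by
          intro φ hφ
          rcases Finset.mem_insert.1 hφ with rfl | h
          · exact hχ
          · rw [Finset.mem_singleton.1 h]
            exact Finset.mem_erase.2 ⟨hne1, hχ'B⟩) (fun φ _ _ => mul_self_nonneg _)
      rw [Finset.sum_pair (Ne.symm hreq), hwe, hrw'] at h2
      rcases habs with h | h <;> rw [h] at h2 <;> norm_num at h2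
  -- the class product in real terms
  have hprodr : ∑ χ ∈ Bf, ((am χ + wm χ : ℤ) : ℝ) ^ 2 * r χ / (charDegree (χ : G → ℂ) : ℝ) = 0 := by
    have h2 := congrArg (starRingEnd ℂ) hprod
    simp only [map_sum, map_div₀, map_mul, Complex.conj_conj, hst, map_zero] at h2
    have h3 : ∑ χ ∈ Bf, (s χ * s χ * conj (A χ) / (χ : G → ℂ) 1 +
        s χ * s χ * A χ / conj ((χ : G → ℂ) 1)) = 0 := by
      rw [Finset.sum_add_distrib, hprod, h2, add_zero]
    have h4 : ((∑ χ ∈ Bf, ((am χ + wm χ : ℤ) : ℝ) ^ 2 * r χ /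
        (charDegree (χ : G → ℂ) : ℝ) : ℝ) : ℂ) * 2 = 0 := by
      rw [← h3, Complex.ofReal_sum, Finset.sum_mul]
      refine Finset.sum_congr rfl fun χ hχ => ?_
      rw [CfsgLib.ZerosCodegree.irr_apply_one_eq, map_natCast, hsm χ hχ, ← add_div, ← mul_add,
        add_comm (conj (A χ)), hrA χ hχ]
      push_cast
      ring
    exact_mod_cast (mul_eq_zero.1 h4).resolve_right (by norm_num)
  rw [← Finset.add_sum_erase Bf _ honeB, hone_a.1, hone_a.2] at hprodr
  have hone_x : charDegree (one : G → ℂ) = 1 := by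
    have := CfsgLib.ZerosCodegree.irr_apply_one_eq one
    rw [hone', CharTheory.trivIrr_apply] at this
    rw [hone']
    exact_mod_cast this.symm
  simp only [hr, hone_a.1, hone_a.2, hone_x] at hprodr
  norm_num at hprodr
  have hrow : ∀ χ ∈ rest, -(((am χ + wm χ : ℤ) : ℝ) ^ 2 * r χ / (charDegree (χ : G → ℂ) : ℝ)) ≤
      17 / 35 * (am χ : ℝ) ^ 2 + 1 / 10 * (wm χ : ℝ) ^ 2 - 31 / 70 * ((am χ : ℝ) * wm χ) := by
    intro χ hχ
    have hχf := hrestB χ hχ
    refine ree_row_bound (am χ) (wm χ) (ha1 χ hχ).1 (ha1 χ hχ).2 (hw1 χ hχ).1 (hw1 χ hχ).2 ?_ ?_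
    · intro hpos
      have hk := hkm χ hχf
      have hge : (charDegree (χ : G → ℂ) : ℤ) ≥ am χ + wm χ + 8 := by
        by_contra hlt
        have hle : (charDegree (χ : G → ℂ) : ℤ) ≤ am χ + wm χ := by omega
        have hsle : ((am χ + wm χ : ℤ) : ℝ) ≤ (charDegree (χ : G → ℂ) : ℝ) := by
          obtain ⟨n, ρ, hρ, hc⟩ := χ.2
          have h1 := CharTheory.norm_character_le ρ t
          rw [hc] at h1
          have h2 : (charDegree (χ : G → ℂ) : ℂ) = (n : ℂ) := by
            rw [← CfsgLib.ZerosCodegree.irr_apply_one_eq, ← hc, ρ.char_one]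
            simp
          rw [show (χ : G → ℂ) t = ((am χ + wm χ : ℤ) : ℂ) from hsm χ hχf,
            Complex.norm_intCast] at h1
          rw [show charDegree (χ : G → ℂ) = n by exact_mod_cast h2]
          refine le_trans (le_abs_self _) (h1.trans ?_)
          simp
        have hse : am χ + wm χ = (charDegree (χ : G → ℂ) : ℤ) := by
          have : am χ + wm χ ≤ (charDegree (χ : G → ℂ) : ℤ) := by exact_mod_cast hsle
          omega
        obtain ⟨K, hKn, hKm, hKc⟩ := CharTheory.exists_kernel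
          (CharTheory.IsIrrCharacter.isCharacter χ.2)
        have htK : t ∈ K := (hKm t).2 (by
          rw [CfsgLib.ZerosCodegree.irr_apply_one_eq, show (χ : G → ℂ) t = _ from hsm χ hχf, hse]
          simp)
        have hKtop : K = ⊤ := (hKn.eq_bot_or_eq_top).resolve_left fun h => ht1 (by
          rw [h] at htK; exact Subgroup.mem_bot.1 htK)
        refine (Finset.mem_erase.1 hχ).1 (Subtype.ext (funext fun g => ?_))
        obtain ⟨n, ρ, hρ, hc⟩ := χ.2
        have hconst : ∀ g, (χ : G → ℂ) g = (χ : G → ℂ) 1 := fun g =>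
          (hKm g).1 (hKtop ▸ Subgroup.mem_top g)
        have hnorm := CharTheory.classInner_self_of_isIrr χ.2
        have hG0 : (Nat.card G : ℂ) ≠ 0 := Nat.cast_ne_zero.2 Nat.card_pos.ne'
        rw [classInner, Finset.sum_congr rfl fun g _ => by rw [hconst g], Finset.sum_const,
          Finset.card_univ, ← Nat.card_eq_fintype_card, nsmul_eq_mul, ← mul_assoc,
          inv_mul_cancel₀ hG0, one_mul] at hnorm
        rw [CfsgLib.ZerosCodegree.irr_apply_one_eq, map_natCast] at hnorm
        have hd : charDegree (χ : G → ℂ) = 1 := by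
          have : charDegree (χ : G → ℂ) * charDegree (χ : G → ℂ) = 1 := by exact_mod_cast hnorm
          exact Nat.eq_one_of_mul_eq_one_right this
        show (χ : G → ℂ) g = (CharTheory.trivIrr G : G → ℂ) g
        rw [hconst, CharTheory.trivIrr_apply, CfsgLib.ZerosCodegree.irr_apply_one_eq, hd,
          Nat.cast_one]
      exact_mod_cast hge
    · intro hneg
      have hk := hkm χ hχf
      have hk' := hk0 χ hχf
      have : -7 * (am χ + wm χ) ≤ (charDegree (χ : G → ℂ) : ℤ) := by omega
      exact_mod_cast this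
  have hle := Finset.sum_le_sum hrow
  rw [Finset.sum_neg_distrib, Finset.sum_sub_distrib, Finset.sum_add_distrib, ← Finset.mul_sum,
    ← Finset.mul_sum, ← Finset.mul_sum] at hle
  have e1 : ∑ χ ∈ rest, (am χ : ℝ) ^ 2 = 3 := by
    simp only [pow_two]; exact_mod_cast hra
  have e2 : ∑ χ ∈ rest, (wm χ : ℝ) ^ 2 = 12 := by
    simp only [pow_two]; exact_mod_cast hrw'
  have e3 : ∑ χ ∈ rest, (am χ : ℝ) * (wm χ : ℝ) = 4 := by exact_mod_cast hraw
  rw [e1, e2, e3] at hle
  simp only [hr] at hle
  push_cast at hle hprodr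
  rw [hrest] at hle
  linarith

end CfsgLib.Involutions
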