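/-
A simple group with an abelian Sylow 3-subgroup of order `h`, normalized by a group of order
`4 h` whose only proper even overgroups are small, does not exist: local structure.
-/
import Cfsg.Agent.Lib.Involutions.Counting
import Cfsg.Agent.Lib.Involutions.ThompsonTransfer
import Cfsg.Agent.Lib.Involutions.Isolated
import Cfsg.Agent.Lib.Involutions.KleinSylow
import Cfsg.Prelude.Def_OddOrderLocal
import Mathlib.Tactic.NormNum.Prime

set_option autoImplicit false
set_option linter.unusedSectionVars false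

open Cfsg

namespace CfsgLib.Involutions

universe u

/-- The hypotheses of the small centralizer problem. -/
structure SmallCent {G : Type u} [Group G] (P : Sylow 3 G) : Prop where
  comm : IsMulCommutative P
  card_normalizer : Nat.card (Subgroup.normalizer ((P : Subgroup G) : Set G)) = 4 * Nat.card P
  card_centralizer : Nat.card (Subgroup.centralizer (P : Set G)) = 2 * Nat.card P
  ti : Cfsg.IsTISubset (Subgroup.centralizer (P : Set G) : Set G)
  even : ∀ H : Subgroup G, H ≠ ⊤ → 2 ∣ Nat.card H → Nat.card H ∣ 4 * Nat.card P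

namespace SmallCent

variable {G : Type u} [Group G] [Finite G] [IsSimpleGroup G] {P : Sylow 3 G}

local notation "CP" => Subgroup.centralizer (P : Set G)
local notation "NP" => Subgroup.normalizer ((P : Subgroup G) : Set G)

variable (d : SmallCent P)
include d

theorem odd_card : Odd (Nat.card P) := by
  haveI : Fact (Nat.Prime 3) := ⟨by norm_num⟩
  obtain ⟨k, hk⟩ := P.isPGroup'.exists_card_eq
  rw [hk]
  exact Odd.pow (by decide)

theorem C_le_N : CP ≤ NP := by
  intro c hc
  rw [Subgroup.mem_centralizer_iff] at hc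
  rw [Subgroup.mem_normalizer_iff]
  intro x
  constructor
  · intro hx
    rw [← hc x hx, mul_inv_cancel_right]
    exact hx
  · intro hx
    have := hc _ hx
    have h' : c * x * c⁻¹ = x := by
      have h1 : c * x = c * (c * x * c⁻¹) := by rw [← this]; group
      exact (mul_left_cancel h1).symm
    rwa [h'] at hx

theorem center_eq_bot : Subgroup.center G = ⊥ := by
  rcases (inferInstance : (Subgroup.center G).Normal).eq_bot_or_eq_top with h | h
  · exact h
  · exfalso
    have hall : ∀ x y : G, x * y = y * x := fun x y =>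
      Subgroup.mem_center_iff.1 (h ▸ Subgroup.mem_top y) x
    have h1 : NP ≤ CP := fun x _ => Subgroup.mem_centralizer_iff.2 fun p _ => hall p x
    have h2 := d.card_centralizer
    rw [le_antisymm d.C_le_N h1, d.card_normalizer] at h2
    have := Nat.card_pos (α := P)
    omega

theorem false_of_normal {H : Subgroup G} (hH : H.Normal) (h1 : H ≠ ⊥) (h2 : H ≠ ⊤) : False :=
  (hH.eq_bot_or_eq_top).elim h1 h2

theorem no_index_two {K : Subgroup G} (hK : K.index = 2) : False := by
  refine d.false_of_normal (Subgroup.normal_of_index_eq_two hK) (fun h => ?_) fun h => ?_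
  · rw [h, Subgroup.index_bot] at hK
    have h2 := Subgroup.card_le_card_group CP
    rw [d.card_centralizer, hK] at h2
    have h3 := d.card_normalizer
    have h4 := Subgroup.card_le_card_group NP
    rw [h3, hK] at h4
    have := Nat.card_pos (α := P)
    omega
  · rw [h, Subgroup.index_top] at hK
    omega

theorem P_le_C : (P : Subgroup G) ≤ CP := by
  intro p hp
  rw [Subgroup.mem_centralizer_iff]
  intro q hq
  exact congrArg Subtype.val (d.comm.is_comm.comm ⟨q, hq⟩ ⟨p, hp⟩)

theorem exists_involution : ∃ t : G, orderOf t = 2 ∧ t ∈ CP := by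
  haveI : Fact (Nat.Prime 2) := ⟨Nat.prime_two⟩
  obtain ⟨t, ht⟩ := exists_prime_orderOf_dvd_card' (G := CP) 2
    (d.card_centralizer ▸ dvd_mul_right 2 _)
  exact ⟨t, (Subgroup.orderOf_coe t).trans ht, t.2⟩

/-- The central involution of the centralizer. -/
noncomputable def t : G := d.exists_involution.choose

theorem orderOf_t : orderOf d.t = 2 := d.exists_involution.choose_spec.1

theorem t_mem : d.t ∈ CP := d.exists_involution.choose_spec.2

theorem t_not_mem_P : d.t ∉ (P : Subgroup G) := by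
  intro h
  have := Subgroup.orderOf_dvd_natCard _ h
  rw [d.orderOf_t] at this
  exact d.odd_card.not_two_dvd_nat this

theorem P_index_in_C : ((P : Subgroup G).subgroupOf CP).index = 2 := by
  have h := ((P : Subgroup G).subgroupOf CP).card_mul_index
  rw [Nat.card_congr (Subgroup.subgroupOfEquivOfLe d.P_le_C).toEquiv, d.card_centralizer] at h
  exact Nat.eq_of_mul_eq_mul_left (Nat.card_pos (α := P)) (h.trans (mul_comm _ _))

theorem mul_mem_P_iff {a b : G} (ha : a ∈ CP) (hb : b ∈ CP) :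
    a * b ∈ (P : Subgroup G) ↔ (a ∈ (P : Subgroup G) ↔ b ∈ (P : Subgroup G)) :=
  Subgroup.mul_mem_iff_of_index_two (a := (⟨a, ha⟩ : CP)) (b := ⟨b, hb⟩) d.P_index_in_C

theorem mul_t_mem {c : G} (hc : c ∈ CP) (hcP : c ∉ (P : Subgroup G)) :
    c * d.t ∈ (P : Subgroup G) :=
  (d.mul_mem_P_iff hc d.t_mem).2 ⟨fun h => absurd h hcP, fun h => absurd h d.t_not_mem_P⟩

theorem t_commute {c : G} (hc : c ∈ CP) : c * d.t = d.t * c := by
  have key : ∀ p ∈ (P : Subgroup G), p * d.t = d.t * p := fun p hp =>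
    (Subgroup.mem_centralizer_iff.1 d.t_mem p hp)
  by_cases h : c ∈ (P : Subgroup G)
  · exact key c h
  · have h1 := key _ (d.mul_t_mem hc h)
    rw [mul_assoc c, mul_self_eq_one d.orderOf_t, mul_one, ← mul_assoc] at h1
    calc c * d.t = d.t * c * d.t * d.t := by rw [← h1]
      _ = d.t * c * (d.t * d.t) := mul_assoc _ _ _
      _ = d.t * c := by rw [mul_self_eq_one d.orderOf_t, mul_one]

theorem C_comm {a b : G} (ha : a ∈ CP) (hb : b ∈ CP) : a * b = b * a := by
  by_cases h : a ∈ (P : Subgroup G)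
  · exact Subgroup.mem_centralizer_iff.1 hb a h
  · have h1 := Subgroup.mem_centralizer_iff.1 hb _ (d.mul_t_mem ha h)
    rw [mul_assoc, ← d.t_commute hb, ← mul_assoc, ← mul_assoc] at h1
    exact mul_right_cancel h1

theorem pow_card_C {c : G} (hc : c ∈ CP) : c ^ (2 * Nat.card P) = 1 := by
  rw [← d.card_centralizer]
  exact congrArg Subtype.val (pow_card_eq_one' (x := (⟨c, hc⟩ : CP)))

theorem mem_P_iff {c : G} (hc : c ∈ CP) : c ∈ (P : Subgroup G) ↔ c ^ Nat.card P = 1 := by
  refine ⟨fun h => congrArg Subtype.val (pow_card_eq_one' (x := (⟨c, h⟩ : (P : Subgroup G)))),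
    fun h => ?_⟩
  by_contra hn
  have h1 : (c * d.t) ^ Nat.card P = 1 :=
    congrArg Subtype.val (pow_card_eq_one' (x := (⟨_, d.mul_t_mem hc hn⟩ : (P : Subgroup G))))
  rw [(show Commute c d.t from d.t_commute hc).mul_pow, h, one_mul] at h1
  have h2 := orderOf_dvd_of_pow_eq_one h1
  rw [d.orderOf_t] at h2
  exact d.odd_card.not_two_dvd_nat h2

theorem eq_t_of_involution {c : G} (hc : c ∈ CP) (h : orderOf c = 2) : c = d.t := by
  have hn : c ∉ (P : Subgroup G) := fun hP => by
    have := Subgroup.orderOf_dvd_natCard _ hP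
    rw [h] at this
    exact d.odd_card.not_two_dvd_nat this
  have h1 := d.mul_t_mem hc hn
  have h2 : (c * d.t) * (c * d.t) = 1 := by
    rw [mul_assoc, ← mul_assoc d.t, ← d.t_commute hc, mul_assoc c d.t d.t,
      mul_self_eq_one d.orderOf_t, mul_one, mul_self_eq_one h]
  have h3 : c * d.t = 1 := by
    by_contra hne
    have h4 := Subgroup.orderOf_dvd_natCard _ h1
    rw [orderOf_eq_two_iff.2 ⟨h2, hne⟩] at h4
    exact d.odd_card.not_two_dvd_nat h4
  exact (orderOf_mul_eq_one_iff d.orderOf_t).1 h3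

theorem conj_mem_C {g c : G} (hg : g ∈ NP) (hc : c ∈ CP) : g * c * g⁻¹ ∈ CP := by
  rw [Subgroup.mem_centralizer_iff] at hc ⊢
  intro p hp
  have hp' : g⁻¹ * p * g ∈ (P : Subgroup G) := by
    have := (Subgroup.mem_normalizer_iff.1 (inv_mem hg) p).1 hp
    rwa [inv_inv] at this
  have := hc _ hp'
  calc p * (g * c * g⁻¹) = g * ((g⁻¹ * p * g) * c) * g⁻¹ := by group
    _ = g * (c * (g⁻¹ * p * g)) * g⁻¹ := by rw [this]
    _ = g * c * g⁻¹ * p := by group

theorem normalizer_C {g : G} (hg : g ∈ Subgroup.normalizer (CP : Set G)) : g ∈ NP := by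
  rw [Subgroup.mem_normalizer_iff]
  intro x
  constructor
  · intro hx
    have h1 : g * x * g⁻¹ ∈ CP := (Subgroup.mem_normalizer_iff.1 hg x).1 (d.P_le_C hx)
    rw [d.mem_P_iff h1, conj_pow, (d.mem_P_iff (d.P_le_C hx)).1 hx, mul_one, mul_inv_cancel]
  · intro hx
    have h1 : x ∈ CP := (Subgroup.mem_normalizer_iff.1 hg x).2 (d.P_le_C hx)
    rw [d.mem_P_iff h1]
    have h2 := (d.mem_P_iff (d.P_le_C hx)).1 hx
    rw [conj_pow] at h2
    exact conj_eq_one_iff.1 h2

/-- The trivial intersection property. -/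
theorem mem_N_of_conj {g x : G} (hx : x ∈ CP) (hx1 : x ≠ 1) (h : g * x * g⁻¹ ∈ CP) : g ∈ NP := by
  by_contra hg
  exact hx1 (d.ti g (fun h' => hg (d.normalizer_C h')) x hx h)

theorem N_le_centralizer_t : NP ≤ Subgroup.centralizer ({d.t} : Set G) := by
  intro g hg
  rw [mem_centralizer_singleton]
  have := d.eq_t_of_involution (d.conj_mem_C hg d.t_mem) ((orderOf_conj g d.t).trans d.orderOf_t)
  exact mul_inv_eq_iff_eq_mul.1 this

theorem centralizer_ne_top {x : G} (hx : x ≠ 1) : Subgroup.centralizer ({x} : Set G) ≠ ⊤ := by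
  intro h
  refine hx ?_
  rw [← Subgroup.mem_bot, ← d.center_eq_bot, Subgroup.mem_center_iff]
  intro g
  exact mem_centralizer_singleton.1 (h ▸ Subgroup.mem_top g : g ∈ Subgroup.centralizer ({x} : Set G))

theorem centralizer_t : Subgroup.centralizer ({d.t} : Set G) = NP := by
  refine (Subgroup.eq_of_le_of_card_ge d.N_le_centralizer_t ?_).symm
  rw [d.card_normalizer]
  refine Nat.le_of_dvd (by have := Nat.card_pos (α := P); omega)
    (d.even _ (d.centralizer_ne_top (ne_one d.orderOf_t)) ?_)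
  have := Subgroup.orderOf_dvd_natCard (Subgroup.centralizer ({d.t} : Set G))
    (x := d.t) (mem_centralizer_singleton.2 rfl)
  rwa [d.orderOf_t] at this

theorem four_dvd_card : 4 ∣ Nat.card G :=
  (dvd_mul_right 4 _).trans (d.card_normalizer ▸ (NP).card_subgroup_dvd_card)

theorem card_sylow_two (S : Sylow 2 G) : Nat.card (S : Subgroup G) = 4 := by
  haveI : Fact (Nat.Prime 2) := ⟨Nat.prime_two⟩
  obtain ⟨k, hk⟩ := S.isPGroup'.exists_card_eq
  have h4 : 4 ∣ Nat.card (S : Subgroup G) := by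
    have := S.pow_dvd_card_of_pow_dvd_card (n := 2) (by simpa using d.four_dvd_card)
    simpa using this
  haveI : Nontrivial (S : Subgroup G) := Finite.one_lt_card_iff_nontrivial.1 (by
    have := Nat.le_of_dvd Nat.card_pos h4
    omega)
  haveI := S.isPGroup'.center_nontrivial
  obtain ⟨z, hz⟩ := exists_prime_orderOf_dvd_card' (G := Subgroup.center (S : Subgroup G)) 2 (by
    obtain ⟨j, hj⟩ := (S.isPGroup'.to_subgroup (Subgroup.center (S : Subgroup G))).exists_card_eq
    have h1 := Finite.one_lt_card (α := Subgroup.center (S : Subgroup G))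
    rcases j with _ | j
    · rw [hj, pow_zero] at h1; omega
    · rw [hj, pow_succ]; exact dvd_mul_left _ _)
  set z' : G := ((z : (S : Subgroup G)) : G) with hz'
  have ho : orderOf z' = 2 := by rw [hz', Subgroup.orderOf_coe, Subgroup.orderOf_coe]; exact hz
  have hle : (S : Subgroup G) ≤ Subgroup.centralizer ({z'} : Set G) := fun s hs =>
    mem_centralizer_singleton.2 (congrArg Subtype.val (Subgroup.mem_center_iff.1 z.2 ⟨s, hs⟩))
  have h1 := (Subgroup.card_dvd_of_le hle).trans (d.even _ (d.centralizer_ne_top (ne_one ho))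
    (by
      have := Subgroup.orderOf_dvd_natCard (Subgroup.centralizer ({z'} : Set G))
        (x := z') (mem_centralizer_singleton.2 rfl)
      rwa [ho] at this))
  refine Nat.dvd_antisymm ?_ h4
  rw [hk] at h1 ⊢
  exact ((Nat.coprime_two_left.2 d.odd_card).pow_left k).dvd_of_dvd_mul_right h1

theorem sq_eq_one_of_pow_four {x : G} (hx : x ^ 4 = 1) : x * x = 1 := by
  haveI : Fact (Nat.Prime 2) := ⟨Nat.prime_two⟩
  rw [← pow_two]
  by_contra hne
  have ho : orderOf x = 4 :=
    orderOf_eq_prime_pow (p := 2) (n := 1) (by simpa using hne) (by simpa using hx)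
  obtain ⟨S⟩ : Nonempty (Sylow 2 G) := inferInstance
  obtain ⟨g, hg⟩ := exists_conj_mem_sylow S
    (isPGroup_zpowers_of_orderOf_eq (p := 2) (k := 2) ho)
  have hcyc : IsCyclic (S : Subgroup G) :=
    isCyclic_of_orderOf_eq_card (⟨_, hg x (Subgroup.mem_zpowers x)⟩ : (S : Subgroup G))
      (by rw [Subgroup.orderOf_mk, orderOf_conj, ho, d.card_sylow_two S])
  obtain ⟨K, hK⟩ := exists_index_two_of_cyclic_sylow
    (even_iff_two_dvd.2 ((dvd_mul_right 2 2).trans d.four_dvd_card)) S hcyc
  exact d.no_index_two hK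

theorem isConj_t {x : G} (hx : orderOf x = 2) : IsConj x d.t := by
  haveI : Fact (Nat.Prime 2) := ⟨Nat.prime_two⟩
  by_contra hno
  obtain ⟨S⟩ : Nonempty (Sylow 2 G) := inferInstance
  have hidx : (Subgroup.zpowers d.t).index % 4 = 2 := by
    have h1 := (Subgroup.zpowers d.t).card_mul_index
    rw [Nat.card_zpowers, d.orderOf_t, ← (S : Subgroup G).card_mul_index, d.card_sylow_two S] at h1
    have h2 := S.not_dvd_index
    omega
  obtain ⟨K, hK⟩ := exists_index_two_of_involution_not_conj hx hidx fun g hg => hno (by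
    obtain ⟨-, h⟩ := eq_half_of_mem_zpowers ((orderOf_conj g x).trans hx) hg
    rw [d.orderOf_t, Nat.div_self (by norm_num), pow_one] at h
    exact isConj_iff.2 ⟨g, h⟩)
  exact d.no_index_two hK

theorem C_index_in_N : ((CP).subgroupOf NP).index = 2 := by
  have h := ((CP).subgroupOf NP).card_mul_index
  rw [Nat.card_congr (Subgroup.subgroupOfEquivOfLe d.C_le_N).toEquiv, d.card_centralizer,
    d.card_normalizer] at h
  have := Nat.card_pos (α := P)
  nlinarith

theorem mul_mem_C_iff {a b : G} (ha : a ∈ NP) (hb : b ∈ NP) :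
    a * b ∈ CP ↔ (a ∈ CP ↔ b ∈ CP) :=
  Subgroup.mul_mem_iff_of_index_two (a := (⟨a, ha⟩ : NP)) (b := ⟨b, hb⟩) d.C_index_in_N

theorem mem_P_of_mem_N {x : G} (hx : x ∈ NP) (hp : x ^ Nat.card P = 1) :
    x ∈ (P : Subgroup G) := by
  haveI : Fact (Nat.Prime 3) := ⟨by norm_num⟩
  obtain ⟨k, hk⟩ := P.isPGroup'.exists_card_eq
  obtain ⟨j, -, hj⟩ := (Nat.dvd_prime_pow (by norm_num : Nat.Prime 3)).1
    (hk ▸ orderOf_dvd_of_pow_eq_one hp)
  have hq := (isPGroup_zpowers_of_orderOf_eq (p := 3) hj).to_sup_of_normal_right'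
    P.isPGroup' (Subgroup.zpowers_le.2 hx)
  exact (P.is_maximal' hq le_sup_right).le (Subgroup.mem_sup_left (Subgroup.mem_zpowers x))

theorem exists_outer : ∃ v : G, v ∈ NP ∧ v ∉ CP ∧ v * v = 1 := by
  haveI : Fact (Nat.Prime 2) := ⟨Nat.prime_two⟩
  obtain ⟨Q, hQ⟩ := Sylow.exists_subgroup_card_pow_prime (G := NP) 2 (n := 2)
    (by rw [d.card_normalizer]; exact dvd_mul_right _ _)
  by_contra hcon
  push Not at hcon
  have hle : Q ≤ (CP).subgroupOf NP := by
    intro q hq
    by_contra hqC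
    refine hcon q q.2 hqC (d.sq_eq_one_of_pow_four ?_)
    have := pow_card_eq_one' (x := (⟨q, hq⟩ : Q))
    rw [hQ] at this
    exact congrArg Subtype.val (congrArg Subtype.val this)
  have := Subgroup.card_dvd_of_le hle
  rw [hQ, Nat.card_congr (Subgroup.subgroupOfEquivOfLe d.C_le_N).toEquiv,
    d.card_centralizer] at this
  exact d.odd_card.not_two_dvd_nat (Nat.dvd_of_mul_dvd_mul_left (by norm_num) this)

theorem inverts {w c : G} (hw : w ∈ NP) (hwC : w ∉ CP) (hc : c ∈ CP) :
    w * c * w⁻¹ = c⁻¹ := by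
  obtain ⟨v, hv, hvC, hv2⟩ := d.exists_outer
  have hv1 : v ≠ 1 := fun h => hvC (h ▸ one_mem _)
  have hvo : orderOf v = 2 := orderOf_eq_two_iff.2 ⟨hv2, hv1⟩
  obtain ⟨g, hg⟩ := isConj_iff.1 (d.isConj_t hvo)
  have hvt : v * d.t = d.t * v := mem_centralizer_singleton.1 (d.N_le_centralizer_t hv)
  -- no non-trivial fixed points on `P`
  have hfix : ∀ q ∈ (P : Subgroup G), v * q * v⁻¹ = q → q = 1 := by
    intro q hq hqv
    by_contra hne
    have h1 : g * q * g⁻¹ ∈ NP := by
      rw [← d.centralizer_t, mem_centralizer_singleton, ← hg]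
      calc g * q * g⁻¹ * (g * v * g⁻¹) = g * (q * v) * g⁻¹ := by group
        _ = g * (v * q) * g⁻¹ := by rw [← mul_inv_eq_iff_eq_mul.1 hqv]
        _ = g * v * g⁻¹ * (g * q * g⁻¹) := by group
    have h2 : g * q * g⁻¹ ∈ (P : Subgroup G) := d.mem_P_of_mem_N h1
      (by rw [conj_pow, (d.mem_P_iff (d.P_le_C hq)).1 hq, mul_one, mul_inv_cancel])
    have hgN := d.mem_N_of_conj (d.P_le_C hq) hne (d.P_le_C h2)
    have := mem_centralizer_singleton.1 (d.N_le_centralizer_t hgN)
    have hvt' : v = d.t := by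
      have e : v = g⁻¹ * d.t * g := by rw [← hg]; group
      rw [e, mul_assoc, ← this, inv_mul_cancel_left]
    exact hvC (hvt' ▸ d.t_mem)
  have hP : ∀ p ∈ (P : Subgroup G), v * p * v⁻¹ = p⁻¹ := by
    intro p hp
    have hvp : v * p * v⁻¹ ∈ (P : Subgroup G) := (Subgroup.mem_normalizer_iff.1 hv p).1 hp
    have hcomm : p * (v * p * v⁻¹) = v * p * v⁻¹ * p :=
      d.C_comm (d.P_le_C hp) (d.P_le_C hvp)
    have := hfix _ (mul_mem hp hvp) (by
      rw [show v * (p * (v * p * v⁻¹)) * v⁻¹ = v * p * v⁻¹ * ((v * v) * p * (v * v)⁻¹) by group,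
        hv2, inv_one, one_mul, mul_one, hcomm])
    exact eq_inv_of_mul_eq_one_right this
  have hC : ∀ c ∈ CP, v * c * v⁻¹ = c⁻¹ := by
    intro c hc
    by_cases h : c ∈ (P : Subgroup G)
    · exact hP c h
    · have h1 := hP _ (d.mul_t_mem hc h)
      rw [mul_inv_rev, inv_eq_self d.orderOf_t, show v * (c * d.t) * v⁻¹ =
        (v * c * v⁻¹) * (v * d.t * v⁻¹) by group, hvt, mul_inv_cancel_right] at h1
      have h2 : d.t * c⁻¹ = c⁻¹ * d.t := (d.t_commute (inv_mem hc)).symm
      rw [h2] at h1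
      exact mul_right_cancel h1
  have hu : w * v⁻¹ ∈ CP := (d.mul_mem_C_iff hw (inv_mem hv)).2
    ⟨fun h => absurd h hwC, fun h => absurd (inv_inv v ▸ inv_mem h) hvC⟩
  rw [show w * c * w⁻¹ = (w * v⁻¹) * (v * c * v⁻¹) * (w * v⁻¹)⁻¹ by group, hC c hc,
    d.C_comm hu (inv_mem hc), mul_inv_cancel_right]

theorem outer_involution {w : G} (hw : w ∈ NP) (hwC : w ∉ CP) : orderOf w = 2 := by
  refine orderOf_eq_two_iff.2 ⟨?_, fun h => hwC (h ▸ one_mem _)⟩
  obtain ⟨v, hv, hvC, hv2⟩ := d.exists_outer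
  have hu : w * v⁻¹ ∈ CP := (d.mul_mem_C_iff hw (inv_mem hv)).2
    ⟨fun h => absurd h hwC, fun h => absurd (inv_inv v ▸ inv_mem h) hvC⟩
  have h1 := d.inverts hv hvC hu
  calc w * w = (w * v⁻¹) * (v * (w * v⁻¹) * v⁻¹) * (v * v) := by group
    _ = 1 := by rw [h1, hv2, mul_one, mul_inv_cancel]

theorem exists_conj_mem_C {u w : G} (hu : orderOf u = 2) (hw : orderOf w = 2) (hne : u ≠ w) :
    ∃ g : G, g * (u * w) * g⁻¹ ∈ CP := by
  obtain ⟨e⟩ := nonempty_dihedralEquiv hu hw hne
  set x := u * w with hx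
  have hcard : Nat.card (Subgroup.closure ({u, w} : Set G)) = 2 * orderOf x := by
    rw [Nat.card_congr e.toEquiv, DihedralGroup.nat_card]
  have hproper : Subgroup.closure ({u, w} : Set G) ≠ ⊤ := by
    intro htop
    have hnorm : Subgroup.closure ({u, w} : Set G) ≤
        Subgroup.normalizer (Subgroup.zpowers x : Set G) := by
      have key : ∀ s : G, s * x * s⁻¹ = x⁻¹ →
          s ∈ Subgroup.normalizer (Subgroup.zpowers x : Set G) := by
        intro s hs y
        constructor
        · intro hy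
          obtain ⟨i, rfl⟩ := Subgroup.mem_zpowers_iff.1 hy
          exact ⟨-i, by simp only; rw [← conj_zpow, hs, inv_zpow']⟩
        · intro hy
          obtain ⟨i, hi⟩ := Subgroup.mem_zpowers_iff.1 hy
          refine ⟨-i, ?_⟩
          show x ^ (-i) = y
          refine mul_left_cancel (a := s) (mul_right_cancel (b := s⁻¹) ?_)
          rw [← conj_zpow, hs, inv_zpow', neg_neg, hi]
      refine (Subgroup.closure_le _).2 ?_
      intro s hs
      rcases (by simpa using hs : s = u ∨ s = w) with h | h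
      · exact key _ (h ▸ conj_mul_eq_inv hu hw)
      · refine key _ ?_
        rw [h]
        rw [hx, inv_eq_self hw, mul_inv_rev, inv_eq_self hw, inv_eq_self hu, ← mul_assoc,
          mul_assoc _ w w, mul_self_eq_one hw, mul_one]
    rw [htop, top_le_iff] at hnorm
    have hn : (Subgroup.zpowers x).Normal := Subgroup.normalizer_eq_top_iff.1 hnorm
    rcases hn.eq_bot_or_eq_top with h | h
    · exact hne ((orderOf_mul_eq_one_iff hw).1 (Subgroup.zpowers_eq_bot.1 h))
    · have hx1 : x = 1 := by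
        rw [← Subgroup.mem_bot, ← d.center_eq_bot, Subgroup.mem_center_iff]
        intro y
        obtain ⟨i, rfl⟩ := Subgroup.mem_zpowers_iff.1 (h ▸ Subgroup.mem_top y : y ∈ Subgroup.zpowers x)
        exact (Commute.zpow_self x i).eq
      exact hne ((orderOf_mul_eq_one_iff hw).1 hx1)
  have hdvd : orderOf x ∣ 2 * Nat.card P := by
    refine Nat.dvd_of_mul_dvd_mul_left (by norm_num : 0 < 2) ?_
    rw [← hcard, ← mul_assoc]
    exact d.even _ hproper (hcard ▸ dvd_mul_right 2 _)
  by_cases hx2 : x * x = 1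
  · obtain ⟨g, hg⟩ := isConj_iff.1 (d.isConj_t (orderOf_eq_two_iff.2
      ⟨hx2, fun h => hne ((orderOf_mul_eq_one_iff hw).1 h)⟩))
    exact ⟨g, hg ▸ d.t_mem⟩
  haveI : Fact (Nat.Prime 3) := ⟨by norm_num⟩
  have hyh : (x * x) ^ Nat.card P = 1 := by
    rw [← pow_two, ← pow_mul]
    exact orderOf_dvd_iff_pow_eq_one.1 hdvd
  obtain ⟨k, hk⟩ := P.isPGroup'.exists_card_eq
  obtain ⟨j, -, hj⟩ := (Nat.dvd_prime_pow (by norm_num : Nat.Prime 3)).1
    (hk ▸ orderOf_dvd_of_pow_eq_one hyh)
  obtain ⟨g, hg⟩ := exists_conj_mem_sylow P (isPGroup_zpowers_of_orderOf_eq (p := 3) hj)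
  refine ⟨g, ?_⟩
  have hy' := hg _ (Subgroup.mem_zpowers (x * x))
  have hy1 : g * (x * x) * g⁻¹ ≠ 1 := fun h => hx2 (conj_eq_one_iff.1 h)
  have hfix : g * x * g⁻¹ * (g * (x * x) * g⁻¹) * (g * x * g⁻¹)⁻¹ = g * (x * x) * g⁻¹ := by group
  have hxN : g * x * g⁻¹ ∈ NP := d.mem_N_of_conj (d.P_le_C hy') hy1
    (by rw [hfix]; exact d.P_le_C hy')
  by_contra hxC
  have h1 := d.inverts hxN hxC (d.P_le_C hy')
  rw [hfix] at h1
  have h2 : g * (x * x) * g⁻¹ * (g * (x * x) * g⁻¹) = 1 := by
    nth_rewrite 2 [h1]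
    exact mul_inv_cancel _
  have h3 := Subgroup.orderOf_dvd_natCard _ hy'
  rw [orderOf_eq_two_iff.2 ⟨h2, hy1⟩] at h3
  exact d.odd_card.not_two_dvd_nat h3

end SmallCent

end CfsgLib.Involutions
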