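/-
Families of generalized characters of norm two with pairwise inner product one, and an inequality
for signed irreducible characters.
-/
import Cfsg.Agent.Lib.Coherence.Signed
import Cfsg.Agent.Lib.CharTheory.Orthogonality

set_option autoImplicit false
set_option linter.unusedSectionVars false

open Cfsg
open scoped ComplexConjugate

namespace CfsgLib.Involutions

open CfsgLib

variable {G : Type*} [Group G] [Fintype G]

theorem inner_signed_add_range {α γ δ : G → ℂ} (hα : IsIrrCharacter G α ∨ IsIrrCharacter G (-α))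
    (hγ : IsIrrCharacter G γ ∨ IsIrrCharacter G (-γ))
    (hδ : IsIrrCharacter G δ ∨ IsIrrCharacter G (-δ)) (h : classInner γ δ = 0) :
    ∃ k : ℤ, -1 ≤ k ∧ k ≤ 1 ∧ classInner (γ + δ) α = k := by
  rw [Coherence.inner_add_left]
  have hs := Coherence.signed_inner_self hα
  rcases Coherence.signed_inner hγ hα with h1 | ⟨e1, h1⟩ | ⟨e1, h1⟩ <;>
    rcases Coherence.signed_inner hδ hα with h2 | ⟨e2, h2⟩ | ⟨e2, h2⟩ <;> rw [h1, h2]
  · exact ⟨0, by norm_num, by norm_num, by norm_num⟩
  · exact ⟨1, by norm_num, by norm_num, by norm_num⟩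
  · exact ⟨-1, by norm_num, by norm_num, by norm_num⟩
  · exact ⟨1, by norm_num, by norm_num, by norm_num⟩
  · exfalso; rw [← e1, ← e2, hs] at h; exact one_ne_zero h
  · exact ⟨0, by norm_num, by norm_num, by norm_num⟩
  · exact ⟨-1, by norm_num, by norm_num, by norm_num⟩
  · exact ⟨0, by norm_num, by norm_num, by norm_num⟩
  · exfalso
    rw [show γ = -α by rw [e1, neg_neg], show δ = -α by rw [e2, neg_neg], Coherence.inner_neg_left,
      Coherence.inner_neg_right, neg_neg, hs] at h
    exact one_ne_zero h

/-- A family of norm two generalized characters with pairwise inner product one, with at least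
four members, has a common signed irreducible constituent. -/
theorem exists_common {ι : Type*} [Nonempty ι] (R : ι → G → ℂ)
    (hR : ∀ i, IsGeneralizedCharacter G (R i)) (h2 : ∀ i, classInner (R i) (R i) = 2)
    (h1 : ∀ i j, R i ≠ R j → classInner (R i) (R j) = 1)
    (hfour : ∀ i j k, ∃ l, R l ≠ R i ∧ R l ≠ R j ∧ R l ≠ R k) :
    ∃ Y : G → ℂ, (IsIrrCharacter G Y ∨ IsIrrCharacter G (-Y)) ∧
      ∀ i, (IsIrrCharacter G (R i - Y) ∨ IsIrrCharacter G (-(R i - Y))) ∧
        classInner Y (R i - Y) = 0 := by
  classical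
  obtain ⟨i0⟩ := ‹Nonempty ι›
  obtain ⟨s, hs2, hsum, hsigned, horth⟩ :=
    Coherence.exists_signed_decomp (hR i0) (k := 2) (by norm_num) (by simpa using h2 i0)
  obtain ⟨α, β, hαβ, rfl⟩ := Finset.card_eq_two.1 hs2
  rw [Finset.sum_pair hαβ] at hsum
  have hαS := hsigned α (by simp)
  have hβS := hsigned β (by simp)
  have hab : classInner α β = 0 := by rw [horth α (by simp) β (by simp), if_neg hαβ]
  have hba : classInner β α = 0 := by rw [horth β (by simp) α (by simp), if_neg (Ne.symm hαβ)]
  have hcases : ∀ i, R i ≠ R i0 →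
      (classInner (R i) α = 1 ∧ classInner (R i) β = 0) ∨
      (classInner (R i) α = 0 ∧ classInner (R i) β = 1) := by
    intro i hi
    obtain ⟨s', hs2', hsum', hsigned', horth'⟩ :=
      Coherence.exists_signed_decomp (hR i) (k := 2) (by norm_num) (by simpa using h2 i)
    obtain ⟨γ, δ, hγδ, rfl⟩ := Finset.card_eq_two.1 hs2'
    rw [Finset.sum_pair hγδ] at hsum'
    have hgd : classInner γ δ = 0 := by rw [horth' γ (by simp) δ (by simp), if_neg hγδ]
    obtain ⟨k, hk1, hk2, hk⟩ :=
      inner_signed_add_range hαS (hsigned' γ (by simp)) (hsigned' δ (by simp)) hgd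
    obtain ⟨l, hl1, hl2, hl⟩ :=
      inner_signed_add_range hβS (hsigned' γ (by simp)) (hsigned' δ (by simp)) hgd
    rw [← hsum'] at hk hl
    have h := h1 i i0 hi
    rw [hsum, Coherence.inner_add_right, hk, hl] at h
    have hkl : k + l = 1 := by exact_mod_cast h
    rw [hk, hl]
    rcases (by omega : (k = 1 ∧ l = 0) ∨ (k = 0 ∧ l = 1)) with ⟨rfl, rfl⟩ | ⟨rfl, rfl⟩
    · exact Or.inl ⟨by norm_num, by norm_num⟩
    · exact Or.inr ⟨by norm_num, by norm_num⟩
  have hsigned_sub : ∀ (i : ι) (Y : G → ℂ), (IsIrrCharacter G Y ∨ IsIrrCharacter G (-Y)) →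
      classInner (R i) Y = 1 →
      (IsIrrCharacter G (R i - Y) ∨ IsIrrCharacter G (-(R i - Y))) ∧
        classInner Y (R i - Y) = 0 := by
    intro i Y hY hi
    have hi' : classInner Y (R i) = 1 := by
      rw [CharTheory.classInner_conj_symm, hi, map_one]
    refine ⟨CharTheory.exists_sign_irr_of_norm_one ?_ ?_, ?_⟩
    · rw [sub_eq_add_neg]
      exact Coherence.isGeneralizedCharacter_add (hR i)
        (Coherence.isGeneralizedCharacter_neg (Coherence.signed_isGeneralized hY))
    · rw [Coherence.inner_sub_left, Coherence.inner_sub_right, Coherence.inner_sub_right, h2,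
        hi, hi', Coherence.signed_inner_self hY]
      ring
    · rw [Coherence.inner_sub_right, hi', Coherence.signed_inner_self hY, sub_self]
  have hmix : ∀ (A B : G → ℂ), (IsIrrCharacter G A ∨ IsIrrCharacter G (-A)) →
      (IsIrrCharacter G B ∨ IsIrrCharacter G (-B)) → classInner A B = 0 →
      ∀ i j l, classInner (R i) A = 1 → classInner (R i) B = 0 → classInner (R l) A = 1 →
        classInner (R l) B = 0 → classInner (R j) A = 0 → classInner (R j) B = 1 → R i = R l := by
    intro A B hA hB hAB i j l hiA hiB hlA hlB hjA hjB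
    have key : ∀ m, classInner (R m) A = 1 → classInner (R m) B = 0 →
        R j - B = R m - A := by
      intro m hmA hmB
      refine Coherence.signed_eq_of_inner (hsigned_sub m A hA hmA).1 (hsigned_sub j B hB hjB).1 ?_
      have hne : R m ≠ R j := fun e => by rw [e, hjA] at hmA; exact zero_ne_one hmA
      have hjA' : classInner A (R j) = 0 := by
        rw [CharTheory.classInner_conj_symm, hjA, map_zero]
      rw [Coherence.inner_sub_left, Coherence.inner_sub_right, Coherence.inner_sub_right,
        h1 m j hne, hmB, hjA', hAB]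
      ring
    have h' := (key i hiA hiB).symm.trans (key l hlA hlB)
    exact sub_left_injective h'
  have h0α : classInner (R i0) α = 1 := by
    rw [hsum, Coherence.inner_add_left, Coherence.signed_inner_self hαS, hba, add_zero]
  have h0β : classInner (R i0) β = 1 := by
    rw [hsum, Coherence.inner_add_left, Coherence.signed_inner_self hβS, hab, zero_add]
  by_cases hallα : ∀ i, classInner (R i) α = 1
  · exact ⟨α, hαS, fun i => hsigned_sub i α hαS (hallα i)⟩
  by_cases hallβ : ∀ i, classInner (R i) β = 1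
  · exact ⟨β, hβS, fun i => hsigned_sub i β hβS (hallβ i)⟩
  exfalso
  push Not at hallα hallβ
  obtain ⟨j, hj⟩ := hallα
  obtain ⟨i, hi⟩ := hallβ
  have hij : R i ≠ R i0 := fun e => hi (by rw [e]; exact h0β)
  have hjj : R j ≠ R i0 := fun e => hj (by rw [e]; exact h0α)
  have hiA := (hcases i hij).resolve_right fun h => hi h.2
  have hjB := (hcases j hjj).resolve_left fun h => hj h.1
  obtain ⟨l, hl0, hli, hlj⟩ := hfour i0 i j
  rcases hcases l hl0 with h | h
  · exact hli (hmix α β hαS hβS hab i j l hiA.1 hiA.2 h.1 h.2 hjB.1 hjB.2).symm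
  · exact hlj (hmix β α hβS hαS hba j i l hjB.2 hjB.1 h.2 h.1 hiA.2 hiA.1).symm

/-- Squared values of orthogonal signed irreducible characters sum to at most the centralizer
order. -/
theorem sum_normSq_le (s : Finset (G → ℂ))
    (hs : ∀ α ∈ s, IsIrrCharacter G α ∨ IsIrrCharacter G (-α))
    (horth : ∀ α ∈ s, ∀ β ∈ s, α ≠ β → classInner α β = 0) (x : G) :
    ∑ α ∈ s, Complex.normSq (α x) ≤ Nat.card (Subgroup.centralizer ({x} : Set G)) := by
  classical
  haveI := Fintype.ofFinite (IrrCharacter G)
  let φ : {α // α ∈ s} → IrrCharacter G := fun α =>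
    if h : IsIrrCharacter G α.1 then ⟨α.1, h⟩ else ⟨-α.1, (hs α.1 α.2).resolve_left h⟩
  have hφ : ∀ α, (φ α : G → ℂ) = α.1 ∨ (φ α : G → ℂ) = -α.1 := by
    intro α
    simp only [φ]
    split_ifs with h
    · exact Or.inl rfl
    · exact Or.inr rfl
  have hinj : Function.Injective φ := by
    intro α β h
    by_contra hne
    have h0 := horth α.1 α.2 β.1 β.2 fun e => hne (Subtype.ext e)
    have h1 := CharTheory.classInner_self_of_isIrr (φ α).2
    have h' : (φ α : G → ℂ) = (φ β : G → ℂ) := congrArg Subtype.val h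
    nth_rewrite 2 [h'] at h1
    rcases hφ α with e | e <;> rcases hφ β with e' | e' <;> rw [e, e'] at h1 <;>
      simp [Coherence.inner_neg_left, Coherence.inner_neg_right, h0] at h1
  have htot : ∑ χ : IrrCharacter G, Complex.normSq ((χ : G → ℂ) x) =
      Nat.card (Subgroup.centralizer ({x} : Set G)) := by
    have := CharTheory.sum_mul_conj (G := G) x x
    rw [if_pos (IsConj.refl x)] at this
    simp only [Complex.mul_conj] at this
    exact_mod_cast this
  rw [← htot, ← Finset.sum_attach]
  calc ∑ α ∈ s.attach, Complex.normSq (α.1 x) = ∑ α ∈ s.attach, Complex.normSq ((φ α : G → ℂ) x) :=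
        Finset.sum_congr rfl fun α _ => by
          rcases hφ α with e | e <;> rw [e] <;> simp
    _ = ∑ χ ∈ s.attach.image φ, Complex.normSq ((χ : G → ℂ) x) :=
        (Finset.sum_image (f := fun χ : IrrCharacter G => Complex.normSq ((χ : G → ℂ) x))
          (fun a _ b _ h => hinj h)).symm
    _ ≤ _ := Finset.sum_le_sum_of_subset_of_nonneg (Finset.subset_univ _)
        fun _ _ _ => Complex.normSq_nonneg _

end CfsgLib.Involutions
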