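/-
A simple group with an abelian Sylow 3-subgroup of order `h` and small even subgroups does not
exist: involution counting and exceptional characters.
-/
import Cfsg.Agent.Lib.Involutions.SmallCentralizer
import Cfsg.Agent.Lib.Involutions.SunflowerChars
import Cfsg.Agent.Lib.Involutions.ZStar
import Cfsg.Agent.Lib.Involutions.CharIdem
import Cfsg.Agent.Lib.CharTheory.Linear
import Cfsg.Agent.Lib.Frobenius.Induce

set_option autoImplicit false
set_option linter.unusedSectionVars false

open Cfsg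
open scoped ComplexConjugate

namespace CfsgLib.Involutions

open CfsgLib

universe u

theorem false_of_square {k h : ℕ} (hh : h = 3 ^ k) (h9 : 9 ≤ h) (y : ℤ)
    (he : (4 * (h : ℤ) ^ 2 - 2 * h + 1) * (y - 1) ^ 2 = 8 * (h : ℤ) ^ 2 * y * (y + 1)) : False := by
  set H : ℤ := (h : ℤ) with hH
  have hH9 : 9 ≤ H := by simp only [hH]; exact_mod_cast h9
  set A : ℤ := 8 * H ^ 2 - (4 * H ^ 2 - 2 * H + 1)
  set B : ℤ := 8 * H ^ 2 + 2 * (4 * H ^ 2 - 2 * H + 1)
  have hsq : (2 * A * y + B) ^ 2 = (8 * H) ^ 2 * (5 * H ^ 2 - 2 * H + 1) := by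
    simp only [A, B]
    linear_combination (-4 * (8 * H ^ 2 - (4 * H ^ 2 - 2 * H + 1))) * he
  obtain ⟨s, hs⟩ := (Int.pow_dvd_pow_iff (a := 8 * H) (b := 2 * A * y + B) (n := 2) (by norm_num)).1
    ⟨_, hsq⟩
  have hs2 : |s| ^ 2 = 5 * H ^ 2 - 2 * H + 1 := by
    rw [hs, mul_pow] at hsq
    rw [sq_abs]
    exact mul_left_cancel₀ (pow_ne_zero 2 (by omega)) hsq
  set q := |s|
  have hq : 0 ≤ q := abs_nonneg s
  have hmul : H * (5 * H - 2) = (q - 1) * (q + 1) := by linear_combination -hs2
  have hp3 : Prime (3 : ℤ) := Int.prime_three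
  have hHpow : H = 3 ^ k := by simp only [hH, hh]; push_cast; rfl
  have hdvd : H ∣ q - 1 ∨ H ∣ q + 1 := by
    rw [hHpow]
    by_cases h3 : (3 : ℤ) ∣ q + 1
    · refine Or.inr (hp3.pow_dvd_of_dvd_mul_left k (a := q - 1) (fun h' => ?_) ?_)
      · obtain ⟨a, ha⟩ := h3
        obtain ⟨b, hb⟩ := h'
        omega
      · rw [← hHpow, ← hmul]; exact dvd_mul_right _ _
    · refine Or.inl (hp3.pow_dvd_of_dvd_mul_right k (b := q + 1) h3 ?_)
      rw [← hHpow, ← hmul]; exact dvd_mul_right _ _
  rcases hdvd with ⟨l, hl⟩ | ⟨l, hl⟩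
  · have e : H * l * l + 2 * l = 5 * H - 2 := mul_left_cancel₀ (show H ≠ 0 by omega) (by
      linear_combination (-(q + 1 + H * l) + 0) * 0 + (-(hmul)) + (-(q + 1 + H * l)) * hl)
    rcases le_or_gt 3 l with h3 | h3
    · nlinarith [mul_le_mul h3 h3 (by norm_num) (by omega), mul_nonneg (show 0 ≤ H by omega) (show 0 ≤ l * l - 9 by nlinarith)]
    rcases le_or_gt l (-3) with h4 | h4
    · nlinarith [mul_nonneg (show 0 ≤ H by omega) (show 0 ≤ l * l - 9 by nlinarith)]
    interval_cases l <;> omega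
  · have e : H * l * l - 2 * l = 5 * H - 2 := mul_left_cancel₀ (show H ≠ 0 by omega) (by
      linear_combination (-(hmul)) + (-(q - 1 + H * l)) * hl)
    rcases le_or_gt 3 l with h3 | h3
    · nlinarith [mul_nonneg (show 0 ≤ H by omega) (show 0 ≤ l * l - 9 by nlinarith)]
    rcases le_or_gt l (-3) with h4 | h4
    · nlinarith [mul_nonneg (show 0 ≤ H by omega) (show 0 ≤ l * l - 9 by nlinarith)]
    interval_cases l <;> omega

namespace SmallCent

variable {G : Type u} [Group G] [Fintype G] [IsSimpleGroup G] {P : Sylow 3 G}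

local notation "CP" => Subgroup.centralizer (P : Set G)
local notation "NP" => Subgroup.normalizer ((P : Subgroup G) : Set G)

variable (d : SmallCent P)
include d

/-- Values of induced class functions on the centralizer. -/
theorem indFun_apply_C (f : CP → ℂ) (h1 : f 1 = 0) (c : CP) :
    indFun CP f (c : G) = f c + f c⁻¹ := by
  classical
  by_cases hc : c = 1
  · subst hc
    rw [inv_one, h1, OneMemClass.coe_one, Frobenius.indFun_one, h1, mul_zero, add_zero]
  have hcG : (c : G) ≠ 1 := fun h => hc (Subtype.ext h)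
  have hterm : ∀ x : G, extendByZero CP f (x⁻¹ * c * x) =
      (if x ∈ CP then f c else 0) + (if x ∈ NP ∧ x ∉ CP then f c⁻¹ else 0) := by
    intro x
    by_cases hxN : x ∈ NP
    · by_cases hxC : x ∈ CP
      · have he : x⁻¹ * c * x = c := by
          rw [mul_assoc, d.C_comm c.2 hxC, inv_mul_cancel_left]
        rw [if_pos hxC, if_neg (fun h => h.2 hxC), add_zero, he, Frobenius.extendByZero_coe]
      · have he : x⁻¹ * c * x = ((c⁻¹ : CP) : G) := by
          have := d.inverts hxN hxC c.2
          rw [mul_inv_eq_iff_eq_mul] at this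
          rw [Subgroup.coe_inv, mul_assoc]
          have h' := d.inverts (inv_mem hxN) (fun h => hxC (inv_inv x ▸ inv_mem h)) c.2
          rw [inv_inv] at h'
          rw [← mul_assoc, h']
        rw [if_neg hxC, if_pos ⟨hxN, hxC⟩, zero_add, he, Frobenius.extendByZero_coe]
    · rw [if_neg fun h => hxN (d.C_le_N h), if_neg fun h => hxN h.1, add_zero]
      refine Frobenius.extendByZero_of_not_mem _ _ fun hm => hxN (inv_inv x ▸ inv_mem ?_)
      exact d.mem_N_of_conj c.2 hcG (by rwa [inv_inv])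
  have hcard : (Finset.univ.filter fun x : G => x ∈ CP).card = 2 * Nat.card P := by
    rw [← d.card_centralizer, Nat.card_eq_fintype_card, Fintype.card_subtype]
  have hcard' : (Finset.univ.filter fun x : G => x ∈ NP ∧ x ∉ CP).card = 2 * Nat.card P := by
    have hsplit := Finset.card_filter_add_card_filter_not
      (s := Finset.univ.filter fun x : G => x ∈ NP) (fun x => x ∈ CP)
    rw [Finset.filter_filter, Finset.filter_filter] at hsplit
    have e : (Finset.univ.filter fun x : G => x ∈ NP ∧ x ∈ CP) =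
        Finset.univ.filter fun x : G => x ∈ CP :=
      Finset.filter_congr fun x _ => ⟨And.right, fun h => ⟨d.C_le_N h, h⟩⟩
    rw [e, hcard, show (Finset.univ.filter fun x : G => x ∈ NP).card = 4 * Nat.card P by
      rw [← d.card_normalizer, Nat.card_eq_fintype_card, Fintype.card_subtype]] at hsplit
    omega
  rw [indFun]
  simp only [hterm, Finset.sum_add_distrib, Finset.sum_ite, Finset.sum_const_zero, add_zero,
    Finset.sum_const, hcard, hcard', nsmul_eq_mul, d.card_centralizer]
  have : ((2 * Nat.card P : ℕ) : ℂ) ≠ 0 := by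
    exact_mod_cast Nat.pos_iff_ne_zero.1 (Nat.mul_pos two_pos Nat.card_pos)
  field_simp

theorem indFun_ext {f f' : CP → ℂ} (h : ∀ c : CP, indFun CP f (c : G) = indFun CP f' (c : G)) :
    indFun CP f = indFun CP f' := by
  funext x
  by_cases hx : ∃ g : G, g⁻¹ * x * g ∈ CP
  · obtain ⟨g, hg⟩ := hx
    have h1 := Frobenius.indFun_isClassFunction CP f x g⁻¹
    have h2 := Frobenius.indFun_isClassFunction CP f' x g⁻¹
    rw [inv_inv] at h1 h2
    rw [← h1, ← h2]
    exact h ⟨_, hg⟩
  · push Not at hx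
    rw [Frobenius.indFun_eq_zero_of_forall_conj_not_mem CP f hx,
      Frobenius.indFun_eq_zero_of_forall_conj_not_mem CP f' hx]

/-- The projection of `C` onto `P`. -/
noncomputable def proj : CP →* (P : Subgroup G) where
  toFun c := ⟨(c : G) ^ (Nat.card P + 1), (d.mem_P_iff (pow_mem c.2 _)).2 (by
    obtain ⟨m, hm⟩ := d.odd_card
    rw [← pow_mul, show (Nat.card P + 1) * Nat.card P = 2 * Nat.card P * (m + 1) by rw [hm]; ring,
      pow_mul, d.pow_card_C c.2, one_pow])⟩
  map_one' := Subtype.ext (by simp)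
  map_mul' a b := Subtype.ext (by
    simp only [Subgroup.coe_mul]
    exact (show Commute (a : G) b from d.C_comm a.2 b.2).mul_pow _)

open Classical in
/-- The sign character of `C` with kernel `P`. -/
noncomputable def sgnChar : CP →* ℂˣ where
  toFun c := if (c : G) ∈ (P : Subgroup G) then 1 else -1
  map_one' := by simp
  map_mul' a b := by
    have := d.mul_mem_P_iff a.2 b.2
    simp only [Subgroup.coe_mul]
    split_ifs <;> simp_all

theorem proj_coe_P (p : (P : Subgroup G)) : d.proj ⟨p, d.P_le_C p.2⟩ = p := by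
  refine Subtype.ext ?_
  show (p : G) ^ (Nat.card P + 1) = p
  rw [pow_succ, (d.mem_P_iff (d.P_le_C p.2)).1 p.2, one_mul]

theorem proj_t : d.proj ⟨d.t, d.t_mem⟩ = 1 := by
  refine Subtype.ext ?_
  show d.t ^ (Nat.card P + 1) = 1
  obtain ⟨m, hm⟩ := d.odd_card
  rw [hm, show 2 * m + 1 + 1 = 2 * (m + 1) by ring, pow_mul, pow_two,
    mul_self_eq_one d.orderOf_t, one_pow]

open Classical in
/-- The linear characters of `C`. -/
noncomputable def psi (i : {μ : (P : Subgroup G) →* ℂˣ // μ ≠ 1} × Bool) : CP →* ℂˣ :=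
  i.1.1.comp d.proj * if i.2 then d.sgnChar else 1

theorem psi_P (i : {μ : (P : Subgroup G) →* ℂˣ // μ ≠ 1} × Bool) (p : (P : Subgroup G)) :
    d.psi i ⟨p, d.P_le_C p.2⟩ = i.1.1 p := by
  obtain ⟨μ, b⟩ := i
  cases b <;> simp [psi, d.proj_coe_P, sgnChar]

theorem psi_t (i : {μ : (P : Subgroup G) →* ℂˣ // μ ≠ 1} × Bool) :
    d.psi i ⟨d.t, d.t_mem⟩ = if i.2 then -1 else 1 := by
  obtain ⟨μ, b⟩ := i
  cases b <;> simp [psi, d.proj_t, sgnChar, d.t_not_mem_P]

theorem psi_injective : Function.Injective d.psi := by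
  intro i j h
  refine Prod.ext (Subtype.ext (MonoidHom.ext fun p => ?_)) ?_
  · rw [← d.psi_P i p, ← d.psi_P j p, h]
  · have := d.psi_t j
    rw [← h, d.psi_t i] at this
    cases hi : i.2 <;> cases hj : j.2 <;> simp [hi, hj] at this ⊢

omit d in
/-- The inverse on the index set. -/
def flipIdx (i : {μ : (P : Subgroup G) →* ℂˣ // μ ≠ 1} × Bool) :
    {μ : (P : Subgroup G) →* ℂˣ // μ ≠ 1} × Bool :=
  (⟨i.1.1⁻¹, fun h => i.1.2 (MonoidHom.ext fun p => inv_eq_one.1 (DFunLike.congr_fun h p))⟩, i.2)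

theorem psi_flip (i : {μ : (P : Subgroup G) →* ℂˣ // μ ≠ 1} × Bool) :
    d.psi (flipIdx i) = (d.psi i)⁻¹ := by
  obtain ⟨μ, b⟩ := i
  refine MonoidHom.ext fun c => ?_
  cases b <;> simp [psi, flipIdx, mul_comm]
  simp only [sgnChar, MonoidHom.coe_mk, OneHom.coe_mk]
  split_ifs <;> simp

theorem flip_ne (i : {μ : (P : Subgroup G) →* ℂˣ // μ ≠ 1} × Bool) : flipIdx i ≠ i := by
  intro h
  have hm : i.1.1⁻¹ = i.1.1 := congrArg (fun j => j.1.1) h
  refine i.1.2 (MonoidHom.ext fun p => ?_)
  have h1 : i.1.1 p * i.1.1 p = 1 := by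
    nth_rewrite 1 [← hm]
    rw [MonoidHom.inv_apply, inv_mul_cancel]
  have h2 : i.1.1 p ^ Nat.card P = 1 := by rw [← map_pow, pow_card_eq_one', map_one]
  obtain ⟨m, hm'⟩ := d.odd_card
  rw [hm', pow_succ, pow_mul, pow_two, h1, one_pow, one_mul] at h2
  rw [h2]; rfl

theorem conj_psi (i : {μ : (P : Subgroup G) →* ℂˣ // μ ≠ 1} × Bool) (c : CP) :
    conj ((d.psi i c : ℂˣ) : ℂ) = (((d.psi i c)⁻¹ : ℂˣ) : ℂ) := by
  rw [← CharTheory.IsIrrCharacter.inv (CharTheory.isIrrCharacter_linear (d.psi i)) c, map_inv]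

/-- The generalized character induced from `1 - ψ`. -/
noncomputable def chF (i : {μ : (P : Subgroup G) →* ℂˣ // μ ≠ 1} × Bool) : G → ℂ :=
  indFun CP fun c => 1 - ((d.psi i c : ℂˣ) : ℂ)

theorem chF_apply (i : {μ : (P : Subgroup G) →* ℂˣ // μ ≠ 1} × Bool) (c : CP) :
    d.chF i (c : G) = 2 - ((d.psi i c : ℂˣ) : ℂ) - (((d.psi i c)⁻¹ : ℂˣ) : ℂ) := by
  rw [chF, d.indFun_apply_C _ (by simp) c, map_inv]
  ring

theorem chF_flip (i : {μ : (P : Subgroup G) →* ℂˣ // μ ≠ 1} × Bool) :
    d.chF (flipIdx i) = d.chF i := by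
  refine d.indFun_ext fun c => ?_
  have h1 := d.chF_apply (flipIdx i) c
  have h2 := d.chF_apply i c
  rw [chF] at h1 h2
  rw [h1, h2, d.psi_flip, MonoidHom.inv_apply, inv_inv]
  ring

open Classical in
theorem sum_hom (f : CP →* ℂˣ) [Decidable (f = 1)] :
    ∑ c : CP, ((f c : ℂˣ) : ℂ) = if f = 1 then (Nat.card CP : ℂ) else 0 := by
  classical
  have h := sum_hom_units ((Units.coeHom ℂ).comp f)
  simp only [MonoidHom.coe_comp, Function.comp_apply, Units.coeHom_apply] at h
  rw [h, Nat.cast_ite, Nat.cast_zero, Nat.card_eq_fintype_card]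
  refine if_congr ⟨fun e => MonoidHom.ext fun c => Units.ext ?_, fun e => by rw [e]; rfl⟩ rfl rfl
  exact DFunLike.congr_fun e c

open Classical in
theorem inner_chF (i j : {μ : (P : Subgroup G) →* ℂˣ // μ ≠ 1} × Bool) :
    classInner (d.chF i) (d.chF j) =
      2 + (if i = j then 1 else 0) + (if j = flipIdx i then 1 else 0) := by
  have e1 : d.psi i * (d.psi j)⁻¹ = 1 ↔ i = j := by
    constructor
    · intro h
      refine d.psi_injective (MonoidHom.ext fun c => mul_inv_eq_one.1 ?_)
      exact DFunLike.congr_fun h c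
    · rintro rfl
      exact MonoidHom.ext fun c => mul_inv_cancel (d.psi i c)
  have e2 : d.psi i * d.psi j = 1 ↔ j = flipIdx i := by
    constructor
    · intro h
      refine d.psi_injective (MonoidHom.ext fun c => ?_)
      rw [d.psi_flip, MonoidHom.inv_apply]
      exact eq_inv_of_mul_eq_one_right (DFunLike.congr_fun h c)
    · rintro rfl
      refine MonoidHom.ext fun c => ?_
      rw [d.psi_flip, MonoidHom.mul_apply, MonoidHom.inv_apply, mul_inv_cancel]
      rfl
  have hne : ∀ k, d.psi k ≠ 1 := fun k h => k.1.2 (MonoidHom.ext fun p => by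
    rw [← d.psi_P k p, h]; rfl)
  rw [show d.chF i = indFun CP (fun c => 1 - ((d.psi i c : ℂˣ) : ℂ)) from rfl,
    Frobenius.classInner_indFun CP _ (d.chF j) (Frobenius.indFun_isClassFunction _ _)]
  have hne' : ∀ k, (d.psi k)⁻¹ ≠ 1 := fun k h => hne k (MonoidHom.ext fun c =>
    inv_eq_one.1 (DFunLike.congr_fun h c))
  have hv : ∀ c : CP, (1 - ((d.psi i c : ℂˣ) : ℂ)) * conj (d.chF j (c : G)) =
      2 - (((d.psi j)⁻¹ c : ℂˣ) : ℂ) - ((d.psi j c : ℂˣ) : ℂ) - 2 * ((d.psi i c : ℂˣ) : ℂ)
        + (((d.psi i * (d.psi j)⁻¹) c : ℂˣ) : ℂ) + (((d.psi i * d.psi j) c : ℂˣ) : ℂ) := by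
    intro c
    rw [d.chF_apply, map_sub, map_sub, map_ofNat, d.conj_psi, Units.val_inv_eq_inv_val, map_inv₀,
      d.conj_psi, Units.val_inv_eq_inv_val, inv_inv]
    simp only [MonoidHom.mul_apply, MonoidHom.inv_apply, Units.val_mul, Units.val_inv_eq_inv_val]
    ring
  simp only [classInner, hv, Finset.sum_add_distrib, Finset.sum_sub_distrib, ← Finset.mul_sum,
    d.sum_hom, hne, hne', if_false, mul_zero, sub_zero, e1, e2, Finset.sum_const,
    Finset.card_univ, nsmul_eq_mul, ← Nat.card_eq_fintype_card]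
  have : (Nat.card CP : ℂ) ≠ 0 := by exact_mod_cast Nat.card_pos.ne'
  split_ifs <;> field_simp <;> ring

open Classical in
theorem inner_chF_one (i : {μ : (P : Subgroup G) →* ℂˣ // μ ≠ 1} × Bool) :
    classInner (d.chF i) (fun _ => (1 : ℂ)) = 1 := by
  classical
  rw [chF, Frobenius.classInner_indFun CP _ _ fun _ _ => rfl]
  have hne : d.psi i ≠ 1 := fun h => i.1.2 (MonoidHom.ext fun p => by
    rw [← d.psi_P i p, h]; rfl)
  simp only [classInner, map_one, mul_one, Finset.sum_sub_distrib, d.sum_hom, hne, if_false,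
    sub_zero, Finset.sum_const, Finset.card_univ, nsmul_eq_mul, ← Nat.card_eq_fintype_card]
  exact inv_mul_cancel₀ (by exact_mod_cast (Nat.card_pos (α := CP)).ne')

theorem isGen_chF (i : {μ : (P : Subgroup G) →* ℂˣ // μ ≠ 1} × Bool) :
    IsGeneralizedCharacter G (d.chF i) := by
  refine Frobenius.isGeneralizedCharacter_indFun CP _ ?_
  rw [show (fun c : CP => 1 - ((d.psi i c : ℂˣ) : ℂ)) =
    (CharTheory.trivIrr CP : CP → ℂ) + -(fun c : CP => ((d.psi i c : ℂˣ) : ℂ)) from
      funext fun c => by simp [CharTheory.trivIrr_apply, sub_eq_add_neg]]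
  exact Coherence.isGeneralizedCharacter_add
    (CharTheory.IsIrrCharacter.isGeneralizedCharacter (CharTheory.trivIrr CP).2)
    (Coherence.isGeneralizedCharacter_neg
      (CharTheory.IsIrrCharacter.isGeneralizedCharacter (CharTheory.isIrrCharacter_linear _)))

theorem card_index : Nat.card ({μ : (P : Subgroup G) →* ℂˣ // μ ≠ 1} × Bool) + 2 =
    2 * Nat.card P := by
  classical
  letI : CommGroup (P : Subgroup G) :=
    { (inferInstance : Group (P : Subgroup G)) with mul_comm := d.comm.is_comm.comm }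
  haveI : HasEnoughRootsOfUnity ℂ (Monoid.exponent (P : Subgroup G)) := by
    haveI : NeZero (Monoid.exponent (P : Subgroup G)) := ⟨Monoid.exponent_ne_zero_of_finite⟩
    infer_instance
  have hc : Nat.card ((P : Subgroup G) →* ℂˣ) = Nat.card P :=
    CommGroup.card_monoidHom_of_hasEnoughRootsOfUnity _ ℂ
  haveI : Finite ((P : Subgroup G) →* ℂˣ) :=
    Nat.finite_of_card_ne_zero (by rw [hc]; exact Nat.card_pos.ne')
  haveI := Fintype.ofFinite ((P : Subgroup G) →* ℂˣ)
  have h1 : Fintype.card {μ : (P : Subgroup G) →* ℂˣ // μ ≠ 1} + 1 = Nat.card P := by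
    rw [← hc, Nat.card_eq_fintype_card, Fintype.card_subtype_compl, Fintype.card_subtype_eq]
    have := Fintype.card_pos (α := (P : Subgroup G) →* ℂˣ)
    omega
  rw [Nat.card_prod, Nat.card_eq_fintype_card, Nat.card_eq_fintype_card (α := Bool),
    Fintype.card_bool]
  omega

/-- The values at the involution of the exceptional characters. -/
theorem exists_signed (h9 : 9 ≤ Nat.card P) : ∃ i, ∃ Y Z : G → ℂ,
    (IsIrrCharacter G Y ∨ IsIrrCharacter G (-Y)) ∧ (IsIrrCharacter G Z ∨ IsIrrCharacter G (-Z)) ∧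
      d.chF i = (fun _ => (1 : ℂ)) + Y + Z ∧ Y d.t = 1 ∧ Z d.t = -2 := by
  classical
  haveI : Finite {μ : (P : Subgroup G) →* ℂˣ // μ ≠ 1} :=
    Nat.finite_of_card_ne_zero (fun h => by
      have := d.card_index
      rw [Nat.card_prod, h] at this
      omega)
  haveI := Fintype.ofFinite {μ : (P : Subgroup G) →* ℂˣ // μ ≠ 1}
  haveI : Nonempty ({μ : (P : Subgroup G) →* ℂˣ // μ ≠ 1} × Bool) :=
    Fintype.card_pos_iff.1 (by rw [← Nat.card_eq_fintype_card]; have := d.card_index; omega)
  let one : G → ℂ := fun _ => 1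
  have hone : IsIrrCharacter G one := CharTheory.isIrrCharacter_one
  let R := fun i => d.chF i - one
  have hFone : ∀ i, classInner (d.chF i) one = 1 := d.inner_chF_one
  have hinner : ∀ i j, classInner (R i) (R j) =
      1 + (if i = j then 1 else 0) + (if j = flipIdx i then 1 else 0) := by
    intro i j
    have h' : classInner one (d.chF j) = 1 := by
      rw [CharTheory.classInner_conj_symm, d.inner_chF_one, map_one]
    simp only [R, Coherence.inner_sub_left, Coherence.inner_sub_right, d.inner_chF,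
      CharTheory.classInner_self_of_isIrr hone, h', hFone]
    ring
  have hR : ∀ i, IsGeneralizedCharacter G (R i) := fun i => by
    simp only [R, sub_eq_add_neg]
    exact Coherence.isGeneralizedCharacter_add (d.isGen_chF i) (Coherence.isGeneralizedCharacter_neg
      (CharTheory.IsIrrCharacter.isGeneralizedCharacter hone))
  have hflipR : ∀ i, R (flipIdx i) = R i := fun i => by simp only [R, d.chF_flip]
  have hReq : ∀ i j, R i = R j ↔ (j = i ∨ j = flipIdx i) := by
    refine fun i j => ⟨fun h => ?_, ?_⟩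
    · by_contra hcon
      push Not at hcon
      have h1 := hinner i j
      rw [← h, hinner i i, if_pos rfl, if_neg (d.flip_ne i).symm, if_neg hcon.1.symm,
        if_neg hcon.2] at h1
      norm_num at h1
    · rintro (rfl | rfl)
      · rfl
      · exact (hflipR i).symm
  have h2 : ∀ i, classInner (R i) (R i) = 2 := fun i => by
    rw [hinner, if_pos rfl, if_neg (d.flip_ne i).symm]; norm_num
  have h1 : ∀ i j, R i ≠ R j → classInner (R i) (R j) = 1 := fun i j h => by
    rw [hinner, if_neg fun e => h (by rw [e]), if_neg fun e => h ((hReq i j).2 (Or.inr e))]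
    norm_num
  have hcardι : 8 ≤ Fintype.card ({μ : (P : Subgroup G) →* ℂˣ // μ ≠ 1} × Bool) := by
    rw [← Nat.card_eq_fintype_card]; have := d.card_index; omega
  obtain ⟨Y, hY, hZ⟩ := exists_common R hR h2 h1 fun i j k => by
    obtain ⟨l, hl⟩ : ∃ l, l ∉ ({i, flipIdx i, j, flipIdx j, k, flipIdx k} :
        Finset ({μ : (P : Subgroup G) →* ℂˣ // μ ≠ 1} × Bool)) := by
      by_contra hall
      push Not at hall
      have h6 : ({i, flipIdx i, j, flipIdx j, k, flipIdx k} :
        Finset ({μ : (P : Subgroup G) →* ℂˣ // μ ≠ 1} × Bool)).card ≤ 6 := Finset.card_le_six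
      rw [Finset.eq_univ_iff_forall.2 hall, Finset.card_univ] at h6
      omega
    simp only [Finset.mem_insert, Finset.mem_singleton, not_or] at hl
    exact ⟨l, fun e => ((hReq i l).1 e.symm).elim hl.1 hl.2.1,
      fun e => ((hReq j l).1 e.symm).elim hl.2.2.1 hl.2.2.2.1,
      fun e => ((hReq k l).1 e.symm).elim hl.2.2.2.2.1 hl.2.2.2.2.2⟩
  -- orthogonality to the principal character
  have hR1 : ∀ i, classInner (R i) one = 0 := fun i => by
    simp only [R, Coherence.inner_sub_left, hFone,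
      CharTheory.classInner_self_of_isIrr hone, sub_self]
  have hY1 : classInner Y one = 0 := by
    obtain ⟨i⟩ := ‹Nonempty ({μ : (P : Subgroup G) →* ℂˣ // μ ≠ 1} × Bool)›
    have h0 := hR1 i
    have hz : classInner (R i - Y) Y = 0 := by
      rw [CharTheory.classInner_conj_symm, (hZ i).2, map_zero]
    rcases Coherence.signed_inner hY (Or.inl hone) with h | ⟨e, h⟩ | ⟨e, h⟩
    · exact h
    · exfalso
      rw [← e, Coherence.inner_sub_left, h0, e] at hz
      rw [Coherence.signed_inner_self hY] at hz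
      norm_num at hz
    · exfalso
      have hn : classInner (R i) (-Y) = 0 := e ▸ h0
      rw [Coherence.inner_neg_right, neg_eq_zero] at hn
      rw [Coherence.inner_sub_left, hn, Coherence.signed_inner_self hY] at hz
      norm_num at hz
  have hZ1 : ∀ i, classInner (R i - Y) one = 0 := fun i => by
    rw [Coherence.inner_sub_left, hR1, hY1, sub_zero]
  -- the signed family
  let Z := fun i => R i - Y
  set s : Finset (G → ℂ) := insert one (insert Y (Finset.univ.image Z)) with hs
  have hsig : ∀ α ∈ s, IsIrrCharacter G α ∨ IsIrrCharacter G (-α) := by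
    intro α hα
    simp only [hs, Finset.mem_insert, Finset.mem_image, Finset.mem_univ, true_and] at hα
    rcases hα with rfl | rfl | ⟨i, rfl⟩
    exacts [Or.inl hone, hY, (hZ i).1]
  have horth : ∀ α ∈ s, ∀ β ∈ s, α ≠ β → classInner α β = 0 := by
    intro α hα β hβ hne
    simp only [hs, Finset.mem_insert, Finset.mem_image, Finset.mem_univ, true_and] at hα hβ
    have sy : ∀ {a b : G → ℂ}, classInner a b = 0 → classInner b a = 0 := fun {a b} h => by
      rw [CharTheory.classInner_conj_symm, h, map_zero]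
    rcases hα with rfl | rfl | ⟨i, rfl⟩ <;> rcases hβ with rfl | rfl | ⟨j, rfl⟩
    · exact absurd rfl hne
    · exact sy hY1
    · exact sy (hZ1 j)
    · exact hY1
    · exact absurd rfl hne
    · exact (hZ j).2
    · exact hZ1 i
    · exact sy (hZ i).2
    · have hne' : R i ≠ R j := fun e => hne (by simp only [Z, e])
      have hYj : classInner Y (R j) = 1 := by
        have h := (hZ j).2
        rw [Coherence.inner_sub_right, Coherence.signed_inner_self hY, sub_eq_zero] at h
        exact h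
      have hiY : classInner (R i) Y = 1 := by
        have h := (hZ i).2
        rw [Coherence.inner_sub_right, Coherence.signed_inner_self hY, sub_eq_zero] at h
        rw [CharTheory.classInner_conj_symm, h, map_one]
      simp only [Z, Coherence.inner_sub_left, Coherence.inner_sub_right, h1 i j hne', hYj, hiY,
        Coherence.signed_inner_self hY]
      ring
  -- values at the involution
  obtain ⟨r, hr⟩ : ∃ r : ℤ, Y d.t = r := by
    rcases hY with h | h
    · obtain ⟨-, r, -, hr, -⟩ := exists_int_of_involution h (mul_self_eq_one d.orderOf_t)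
      exact ⟨r, hr⟩
    · obtain ⟨-, r, -, hr, -⟩ := exists_int_of_involution h (mul_self_eq_one d.orderOf_t)
      exact ⟨-r, by rw [Int.cast_neg, ← hr]; simp⟩
  have hZt : ∀ i, Z i d.t = ((if i.2 then 3 - r else -1 - r : ℤ) : ℂ) := by
    intro i
    have h := d.chF_apply i ⟨d.t, d.t_mem⟩
    rw [d.psi_t] at h
    show d.chF i d.t - one d.t - Y d.t = _
    rw [h, hr]
    cases i.2 <;> simp <;> push_cast <;> ring
  have hle := sum_normSq_le s hsig horth d.t
  rw [d.centralizer_t, d.card_normalizer] at hle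
  have hnot1 : one ∉ insert Y (Finset.univ.image Z) := by
    intro hm
    simp only [Finset.mem_insert, Finset.mem_image, Finset.mem_univ, true_and] at hm
    have h1' := CharTheory.classInner_self_of_isIrr hone
    rcases hm with e | ⟨i, e⟩
    · nth_rewrite 1 [e] at h1'; rw [hY1] at h1'; exact zero_ne_one h1'
    · nth_rewrite 1 [← e] at h1'; rw [hZ1] at h1'; exact zero_ne_one h1'
  have hnot2 : Y ∉ Finset.univ.image Z := by
    intro hm
    obtain ⟨i, -, e⟩ := Finset.mem_image.1 hm
    have := Coherence.signed_inner_self hY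
    nth_rewrite 2 [← e] at this
    rw [(hZ i).2] at this
    exact zero_ne_one this
  rw [hs, Finset.sum_insert hnot1, Finset.sum_insert hnot2] at hle
  have himg : ∑ i, Complex.normSq (Z i d.t) =
      2 * ∑ α ∈ Finset.univ.image Z, Complex.normSq (α d.t) := by
    rw [Finset.sum_comp (fun α : G → ℂ => Complex.normSq (α d.t)) Z, Finset.mul_sum]
    refine Finset.sum_congr rfl fun α hα => ?_
    obtain ⟨i, -, rfl⟩ := Finset.mem_image.1 hα
    have : (Finset.univ.filter fun j => Z j = Z i) = {i, flipIdx i} := by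
      ext j
      simp only [Finset.mem_filter, Finset.mem_univ, true_and, Finset.mem_insert,
        Finset.mem_singleton, Z]
      rw [sub_left_inj, eq_comm, hReq]
    rw [this, Finset.card_pair (d.flip_ne i).symm, nsmul_eq_mul]
    norm_num
  have hsum : ∑ i, Complex.normSq (Z i d.t) =
      ((Fintype.card {μ : (P : Subgroup G) →* ℂˣ // μ ≠ 1} *
        ((3 - r) ^ 2 + (-1 - r) ^ 2) : ℤ) : ℝ) := by
    simp only [hZt, Complex.normSq_intCast, Fintype.sum_prod_type, Fintype.sum_bool, if_true,
      Bool.false_eq_true, if_false, Finset.sum_const, Finset.card_univ, nsmul_eq_mul]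
    push_cast
    ring
  have hM : (Fintype.card {μ : (P : Subgroup G) →* ℂˣ // μ ≠ 1} : ℤ) = Nat.card P - 1 := by
    have h := d.card_index
    rw [Nat.card_prod, Nat.card_eq_fintype_card, Nat.card_eq_fintype_card (α := Bool),
      Fintype.card_bool] at h
    omega
  have hineq : (2 + 2 * r ^ 2 + ((Nat.card P : ℤ) - 1) * ((3 - r) ^ 2 + (-1 - r) ^ 2)) ≤
      8 * (Nat.card P : ℤ) := by
    have h1' : (2 : ℝ) + 2 * (r : ℝ) ^ 2 + ∑ i, Complex.normSq (Z i d.t) ≤
        8 * (Nat.card P : ℝ) := by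
      rw [himg]
      have e1 : Complex.normSq (one d.t) = 1 := map_one _
      have e2 : Complex.normSq (Y d.t) = (r : ℝ) ^ 2 := by
        rw [hr, Complex.normSq_intCast]; ring
      rw [e1, e2] at hle
      push_cast at hle ⊢
      linarith
    rw [hsum, hM] at h1'
    exact_mod_cast h1'
  have hr1 : r = 1 := by
    have hsmall : ((Nat.card P : ℤ) - 1) * (r - 1) ^ 2 + r ^ 2 ≤ 3 := by nlinarith
    by_contra hne
    have : 1 ≤ (r - 1) ^ 2 := by
      rcases lt_or_gt_of_ne hne with h | h <;> nlinarith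
    nlinarith [mul_le_mul_of_nonneg_left this (show (0 : ℤ) ≤ (Nat.card P : ℤ) - 1 by omega)]
  obtain ⟨⟨μ, -⟩⟩ := ‹Nonempty ({μ : (P : Subgroup G) →* ℂˣ // μ ≠ 1} × Bool)›
  refine ⟨(μ, false), Y, Z (μ, false), hY, (hZ _).1, ?_, by rw [hr, hr1, Int.cast_one], ?_⟩
  · funext x
    simp only [Pi.add_apply, Z, R, Pi.sub_apply, one]
    ring
  · rw [hZt, hr1]
    norm_num

end SmallCent

end CfsgLib.Involutions
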