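/-
A simple group with an abelian Sylow 3-subgroup of order `h` and small even subgroups does not
exist: counting pairs of involutions and the conclusion.
-/
import Cfsg.Agent.Lib.Involutions.SmallCentralizerChars

set_option autoImplicit false
set_option linter.unusedSectionVars false

open Cfsg
open scoped ComplexConjugate

namespace CfsgLib.Involutions

open CfsgLib

universe u

namespace SmallCent

variable {G : Type u} [Group G] [Fintype G] [IsSimpleGroup G] {P : Sylow 3 G}

local notation "CP" => Subgroup.centralizer (P : Set G)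
local notation "NP" => Subgroup.normalizer ((P : Subgroup G) : Set G)

variable (d : SmallCent P)
include d

open Classical in
omit d in
/-- The set of involutions. -/
noncomputable def invols (G : Type u) [Group G] [Fintype G] : Finset G :=
  Finset.univ.filter fun g => orderOf g = 2

open Classical in
omit d in
/-- The pairs of involutions with product `x`. -/
noncomputable def pairs (x : G) : Finset (G × G) :=
  ((invols G) ×ˢ (invols G)).filter fun p => p.1 * p.2 = x

omit d in
theorem mem_invols {g : G} : g ∈ invols G ↔ orderOf g = 2 := by simp [invols]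

omit d in
theorem card_pairs_conj (g x : G) :
    (pairs (g * x * g⁻¹)).card = (pairs x).card := by
  classical
  refine (Finset.card_bij (fun p _ => (g * p.1 * g⁻¹, g * p.2 * g⁻¹)) ?_ ?_ ?_).symm
  · intro p hp
    simp only [pairs, Finset.mem_filter, Finset.mem_product, mem_invols, orderOf_conj] at hp ⊢
    refine ⟨hp.1, ?_⟩
    rw [← hp.2]
    group
  · intro p _ q _ h
    rw [Prod.ext_iff] at h ⊢
    exact ⟨mul_left_cancel (mul_right_cancel h.1), mul_left_cancel (mul_right_cancel h.2)⟩
  · intro q hq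
    refine ⟨(g⁻¹ * q.1 * g, g⁻¹ * q.2 * g), ?_, by ext <;> simp [mul_assoc]⟩
    simp only [pairs, Finset.mem_filter, Finset.mem_product, mem_invols] at hq ⊢
    have e : ∀ y : G, orderOf (g⁻¹ * y * g) = orderOf y := fun y => by
      have := orderOf_conj g⁻¹ y
      rwa [inv_inv] at this
    rw [e, e]
    refine ⟨hq.1, ?_⟩
    calc g⁻¹ * q.1 * g * (g⁻¹ * q.2 * g) = g⁻¹ * (q.1 * q.2) * g := by group
      _ = x := by rw [hq.2]; group

open Classical in
theorem card_outer : (Finset.univ.filter fun x : G => x ∈ NP ∧ x ∉ CP).card = 2 * Nat.card P := by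
  have hsplit := Finset.card_filter_add_card_filter_not
    (s := Finset.univ.filter fun x : G => x ∈ NP) (fun x => x ∈ CP)
  rw [Finset.filter_filter, Finset.filter_filter] at hsplit
  have e : (Finset.univ.filter fun x : G => x ∈ NP ∧ x ∈ CP) =
      Finset.univ.filter fun x : G => x ∈ CP :=
    Finset.filter_congr fun x _ => ⟨And.right, fun h => ⟨d.C_le_N h, h⟩⟩
  rw [e, show (Finset.univ.filter fun x : G => x ∈ CP).card = 2 * Nat.card P by
      rw [← d.card_centralizer, Nat.card_eq_fintype_card, Fintype.card_subtype],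
    show (Finset.univ.filter fun x : G => x ∈ NP).card = 4 * Nat.card P by
      rw [← d.card_normalizer, Nat.card_eq_fintype_card, Fintype.card_subtype]] at hsplit
  omega

theorem card_pairs_of_mem {c : G} (hc : c ∈ CP) (h1 : c ≠ 1) :
    (pairs c).card = 2 * Nat.card P := by
  classical
  rw [← d.card_outer]
  refine Finset.card_bij (fun p _ => p.1) ?_ ?_ ?_
  · intro p hp
    simp only [pairs, Finset.mem_filter, Finset.mem_product, mem_invols] at hp
    obtain ⟨⟨hu, hw⟩, hp⟩ := hp
    simp only [Finset.mem_filter, Finset.mem_univ, true_and]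
    have hinv : p.1 * c * p.1⁻¹ = c⁻¹ := by rw [← hp]; exact conj_mul_eq_inv hu hw
    have hN : p.1 ∈ NP := d.mem_N_of_conj hc h1 (by rw [hinv]; exact inv_mem hc)
    refine ⟨hN, fun hC => ?_⟩
    have e := d.eq_t_of_involution hC hu
    rw [d.C_comm hC hc, mul_inv_cancel_right] at hinv
    have h2 : orderOf c = 2 := orderOf_eq_two_iff.2
      ⟨by nth_rewrite 2 [hinv]; exact mul_inv_cancel c, h1⟩
    have ec := d.eq_t_of_involution hc h2
    rw [ec, e] at hp
    exact ne_one hw (mul_left_cancel (a := d.t) (hp.trans (mul_one _).symm))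
  · intro p hp q hq h
    simp only [pairs, Finset.mem_filter] at hp hq
    have h' := hp.2.trans hq.2.symm
    rw [Prod.ext_iff]
    refine ⟨h, ?_⟩
    rw [h] at h'
    exact mul_left_cancel h'
  · intro u hu
    simp only [Finset.mem_filter, Finset.mem_univ, true_and] at hu
    have hu2 := d.outer_involution hu.1 hu.2
    have hN : u * c ∈ NP := mul_mem hu.1 (d.C_le_N hc)
    have hC : u * c ∉ CP := fun h => hu.2 (by
      have := mul_mem h (inv_mem hc)
      rwa [mul_inv_cancel_right] at this)
    refine ⟨(u, u * c), ?_, rfl⟩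
    simp only [pairs, Finset.mem_filter, Finset.mem_product, mem_invols]
    exact ⟨⟨hu2, d.outer_involution hN hC⟩, by rw [← mul_assoc, mul_self_eq_one hu2, one_mul]⟩

omit d in
theorem card_pairs_one : (pairs (1 : G)).card = (invols G).card := by
  classical
  refine Finset.card_bij (fun p _ => p.1) ?_ ?_ ?_
  · intro p hp
    simp only [pairs, Finset.mem_filter, Finset.mem_product] at hp
    exact hp.1.1
  · intro p hp q hq h
    simp only [pairs, Finset.mem_filter] at hp hq
    rw [Prod.ext_iff]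
    refine ⟨h, ?_⟩
    have h' := hp.2.trans hq.2.symm
    rw [h] at h'
    exact mul_left_cancel h'
  · intro u hu
    refine ⟨(u, u), ?_, rfl⟩
    simp only [pairs, Finset.mem_filter, Finset.mem_product]
    exact ⟨⟨hu, hu⟩, mul_self_eq_one (mem_invols.1 hu)⟩

theorem sum_conj_t (φ : G → ℂ) :
    ∑ b : G, φ (b * d.t * b⁻¹) = (4 * Nat.card P : ℕ) * ∑ u ∈ invols G, φ u := by
  classical
  rw [← Finset.sum_fiberwise_of_maps_to (s := Finset.univ) (t := invols G)
    (g := fun b : G => b * d.t * b⁻¹) (fun b _ => mem_invols.2 ((orderOf_conj b d.t).trans d.orderOf_t)),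
    Finset.mul_sum]
  refine Finset.sum_congr rfl fun u hu => ?_
  obtain ⟨b0, hb0⟩ := isConj_iff.1 (d.isConj_t (mem_invols.1 hu)).symm
  rw [Finset.sum_congr rfl (g := fun _ => φ u) fun b hb => by rw [(Finset.mem_filter.1 hb).2],
    Finset.sum_const, nsmul_eq_mul]
  congr 1
  rw [← d.card_normalizer, ← d.centralizer_t, Nat.card_eq_fintype_card, Fintype.card_subtype,
    Nat.cast_inj]
  refine Finset.card_bij (fun b _ => b0⁻¹ * b) ?_ ?_ ?_
  · intro b hb
    simp only [Finset.mem_filter, Finset.mem_univ, true_and] at hb ⊢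
    rw [mem_centralizer_singleton]
    calc b0⁻¹ * b * d.t = b0⁻¹ * (b * d.t * b⁻¹) * b := by group
      _ = b0⁻¹ * (b0 * d.t * b0⁻¹) * b := by rw [hb, hb0]
      _ = d.t * (b0⁻¹ * b) := by group
  · intro a _ b _ h
    exact mul_left_cancel h
  · intro x hx
    simp only [Finset.mem_filter, Finset.mem_univ, true_and, mem_centralizer_singleton] at hx
    refine ⟨b0 * x, ?_, inv_mul_cancel_left b0 x⟩
    simp only [Finset.mem_filter, Finset.mem_univ, true_and]
    calc b0 * x * d.t * (b0 * x)⁻¹ = b0 * (x * d.t) * x⁻¹ * b0⁻¹ := by group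
      _ = b0 * (d.t * x) * x⁻¹ * b0⁻¹ := by rw [hx]
      _ = u := by rw [← hb0]; group

theorem card_eq : Nat.card G = 4 * Nat.card P * (invols G).card := by
  have h := d.sum_conj_t fun _ => (1 : ℂ)
  simp only [Finset.sum_const, nsmul_eq_mul, mul_one, Finset.card_univ,
    ← Nat.card_eq_fintype_card] at h
  exact_mod_cast h

omit d in
theorem sum_pairs_eq (F : G → ℂ) :
    ∑ w ∈ invols G, ∑ u ∈ invols G, F (u * w) = ∑ x : G, ((pairs x).card : ℂ) * F x := by
  classical
  rw [Finset.sum_comm, ← Finset.sum_product', ← Finset.sum_fiberwise (s := (invols G) ×ˢ (invols G))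
    (g := fun p => p.1 * p.2)]
  refine Finset.sum_congr rfl fun x _ => ?_
  rw [← nsmul_eq_mul, ← Finset.sum_const]
  exact Finset.sum_congr rfl fun p hp => by
    simp only [pairs, Finset.mem_filter] at hp
    rw [hp.2]

theorem exists_conj_of_pairs {x : G} (hx : x ≠ 1) (hp : (pairs x).card ≠ 0) :
    ∃ g : G, g * x * g⁻¹ ∈ CP := by
  classical
  obtain ⟨p, hp⟩ := Finset.card_pos.1 (Nat.pos_of_ne_zero hp)
  simp only [pairs, Finset.mem_filter, Finset.mem_product, mem_invols] at hp
  obtain ⟨⟨hu, hw⟩, rfl⟩ := hp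
  refine d.exists_conj_mem_C hu hw fun e => hx ?_
  rw [e, mul_self_eq_one hw]

/-- A class function induced from `C` and vanishing at `1` only sees `2 h` pairs of involutions. -/
theorem pairs_mul_indFun (f : CP → ℂ) (h1 : f 1 = 0) (x : G) :
    ((pairs x).card : ℂ) * indFun CP f x = (2 * Nat.card P : ℕ) * indFun CP f x := by
  rcases eq_or_ne x 1 with rfl | hx
  · rw [Frobenius.indFun_one, h1, mul_zero, mul_zero, mul_zero]
  by_cases h : ∃ g : G, g⁻¹ * x * g ∈ CP
  · obtain ⟨g, hg⟩ := h
    have h1' := d.card_pairs_of_mem hg (fun e => hx (by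
      have := congrArg (fun y => g * y * g⁻¹) e
      simpa [mul_assoc] using this))
    have h2 := card_pairs_conj g⁻¹ x
    rw [inv_inv] at h2
    rw [← h2, h1']
  · push Not at h
    rw [Frobenius.indFun_eq_zero_of_forall_conj_not_mem CP f h, mul_zero, mul_zero]

theorem invols_card_eq :
    ((invols G).card : ℤ) = 4 * (Nat.card P : ℤ) ^ 2 - 2 * Nat.card P + 1 := by
  classical
  set h := Nat.card P
  let f : CP → ℂ := fun c => if c = 1 then 0 else 1
  set E := indFun CP f with hE
  have hterm : ∀ x : G, ((pairs x).card : ℂ) =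
      (if x = 1 then ((invols G).card : ℂ) else 0) + (h : ℂ) * E x := by
    intro x
    rcases eq_or_ne x 1 with rfl | hx
    · rw [if_pos rfl, card_pairs_one, hE, Frobenius.indFun_one]
      simp [f]
    rw [if_neg hx, zero_add]
    by_cases hp : ∃ g : G, g * x * g⁻¹ ∈ CP
    · obtain ⟨g, hg⟩ := hp
      have hne : (⟨g * x * g⁻¹, hg⟩ : CP) ≠ 1 := fun e =>
        hx (conj_eq_one_iff.1 (congrArg Subtype.val e))
      have hv := d.indFun_apply_C f (by simp [f]) ⟨g * x * g⁻¹, hg⟩
      have hf : ∀ c : CP, c ≠ 1 → f c = 1 := fun c hc => if_neg hc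
      rw [hf _ hne, hf _ (inv_ne_one.2 hne)] at hv
      rw [hE, ← Frobenius.indFun_isClassFunction CP f x g, hv, ← card_pairs_conj g x,
        d.card_pairs_of_mem hg (fun e => hne (Subtype.ext e))]
      push_cast
      ring
    · have h0 : (pairs x).card = 0 := by
        by_contra h0
        exact hp (d.exists_conj_of_pairs hx h0)
      rw [h0, hE, Frobenius.indFun_eq_zero_of_forall_conj_not_mem CP f fun g hg => hp ⟨g⁻¹, by
        rwa [inv_inv]⟩]
      simp
  have hEsum : ∑ x : G, E x =
      (Nat.card G : ℂ) * ((2 * h : ℕ) : ℂ)⁻¹ * (((2 * h : ℕ) : ℂ) - 1) := by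
    have h1 := Frobenius.classInner_indFun CP f (fun _ => (1 : ℂ)) fun _ _ => rfl
    simp only [classInner, map_one, mul_one, ← hE, d.card_centralizer] at h1
    have hsum : ∑ c : CP, f c = ((2 * h : ℕ) : ℂ) - 1 := by
      have e : ∀ c : CP, f c = 1 - (if c = 1 then 1 else 0) := fun c => by
        simp only [f]; split_ifs <;> ring
      simp only [e, Finset.sum_sub_distrib, Finset.sum_const, Finset.card_univ, nsmul_eq_mul,
        mul_one, Finset.sum_ite_eq', Finset.mem_univ, if_true, ← Nat.card_eq_fintype_card,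
        d.card_centralizer, h]
    rw [hsum] at h1
    have hG : (Nat.card G : ℂ) ≠ 0 := by exact_mod_cast (Nat.card_pos (α := G)).ne'
    calc ∑ x : G, E x = (Nat.card G : ℂ) * ((Nat.card G : ℂ)⁻¹ * ∑ x : G, E x) := by
          rw [mul_inv_cancel_left₀ hG]
      _ = _ := by rw [h1, mul_assoc]
  have htot := sum_pairs_eq (G := G) (fun _ => (1 : ℂ))
  simp only [Finset.sum_const, nsmul_eq_mul, mul_one, hterm, Finset.sum_add_distrib,
    Finset.sum_ite_eq', Finset.mem_univ, if_true, ← Finset.mul_sum, hEsum, d.card_eq] at htot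
  have hh : (h : ℂ) ≠ 0 := by exact_mod_cast (Nat.card_pos (α := P)).ne'
  push_cast at htot
  field_simp at htot
  have hn : ((invols G).card : ℂ) ≠ 0 := by
    have hcard := d.card_eq
    have := Nat.card_pos (α := G)
    rw [hcard] at this
    exact_mod_cast (Nat.pos_of_mul_pos_left this).ne'
  have hkey : ((invols G).card : ℂ) = 4 * (h : ℂ) ^ 2 - 2 * h + 1 := by
    refine mul_left_cancel₀ hn ?_
    simp only [h] at htot ⊢
    linear_combination (1 / 2 : ℂ) * htot
  exact_mod_cast hkey

theorem sum_chF_conj (i : {μ : (P : Subgroup G) →* ℂˣ // μ ≠ 1} × Bool) :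
    ∑ b : G, d.chF i (b * d.t * b⁻¹ * d.t) = 32 * (Nat.card P : ℂ) ^ 3 := by
  set F := d.chF i with hF
  set n := (invols G).card with hn
  set h := Nat.card P
  have hn0 : (n : ℂ) ≠ 0 := by
    have := Nat.card_pos (α := G)
    rw [d.card_eq] at this
    exact_mod_cast (Nat.pos_of_mul_pos_left this).ne'
  have hcl : IsClassFunction G F := Frobenius.indFun_isClassFunction _ _
  have hconst : ∀ w ∈ invols G, ∑ u ∈ invols G, F (u * w) = ∑ u ∈ invols G, F (u * d.t) := by
    intro w hw
    obtain ⟨a, ha⟩ := isConj_iff.1 (d.isConj_t (mem_invols.1 hw)).symm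
    refine (Finset.sum_equiv (MulAut.conj a).toEquiv (fun u => ?_) fun u _ => ?_).symm
    · show u ∈ invols G ↔ a * u * a⁻¹ ∈ invols G
      rw [mem_invols, mem_invols, orderOf_conj]
    · show F (u * d.t) = F (a * u * a⁻¹ * w)
      rw [← hcl (u * d.t) a, ← ha]
      congr 1
      group
  have h1 := sum_pairs_eq F
  rw [Finset.sum_congr rfl hconst, Finset.sum_const, nsmul_eq_mul, ← hn] at h1
  have h2 : ∑ x : G, F x = (Nat.card G : ℂ) := by
    have h' := d.inner_chF_one i
    simp only [classInner, map_one, mul_one] at h'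
    have hG : (Nat.card G : ℂ) ≠ 0 := by exact_mod_cast (Nat.card_pos (α := G)).ne'
    field_simp at h'
    exact h'
  have h3 : ∑ x : G, ((pairs x).card : ℂ) * F x = ((2 * h : ℕ) : ℂ) * Nat.card G := by
    rw [← h2, Finset.mul_sum]
    exact Finset.sum_congr rfl fun x _ => d.pairs_mul_indFun _ (by simp) x
  rw [h3, d.card_eq] at h1
  rw [d.sum_conj_t fun u => F (u * d.t)]
  refine mul_left_cancel₀ hn0 ?_
  push_cast at h1 ⊢
  linear_combination (4 * (h : ℂ)) * h1

omit d in
theorem sum_signed {Y : G → ℂ} (hY : IsIrrCharacter G Y ∨ IsIrrCharacter G (-Y)) (a : G) :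
    ∑ b : G, Y (b * a * b⁻¹ * a) = (Nat.card G : ℂ) * (Y a * Y a / Y 1) := by
  rcases hY with h | h
  · exact sum_conj_mul_eq ⟨Y, h⟩ a a
  · have := sum_conj_mul_eq ⟨-Y, h⟩ a a
    simp only [Pi.neg_apply, Finset.sum_neg_distrib, neg_mul, mul_neg, neg_neg, div_neg, neg_inj] at this
    exact this

theorem false_of_nine (h9 : 9 ≤ Nat.card P) : False := by
  haveI : Fact (Nat.Prime 3) := ⟨by norm_num⟩
  obtain ⟨i, Y, Z, hY, hZ, hF, hYt, hZt⟩ := d.exists_signed h9
  obtain ⟨y, hy, hy0⟩ : ∃ y : ℤ, Y 1 = (y : ℂ) ∧ y ≠ 0 := by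
    rcases hY with h | h
    · obtain ⟨m, hm, hm'⟩ := CharTheory.exists_degree_of_isIrr h
      exact ⟨m, by rw [hm']; push_cast; rfl, by exact_mod_cast hm.ne'⟩
    · obtain ⟨m, hm, hm'⟩ := CharTheory.exists_degree_of_isIrr h
      refine ⟨-(m : ℤ), ?_, by omega⟩
      have e : -(Y 1) = (m : ℂ) := hm'
      push_cast
      rw [← e, neg_neg]
  have hZ0 := Coherence.signed_apply_one_ne_zero hZ
  have hF1 : d.chF i 1 = 0 := by
    rw [show d.chF i = indFun CP (fun c => 1 - ((d.psi i c : ℂˣ) : ℂ)) from rfl,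
      Frobenius.indFun_one]
    simp
  have hZ1 : Z 1 = -1 - (y : ℂ) := by
    rw [hF] at hF1
    simp only [Pi.add_apply, hy] at hF1
    linear_combination hF1
  have hsum := d.sum_chF_conj i
  rw [hF] at hsum
  simp only [Pi.add_apply, Finset.sum_add_distrib, sum_signed hY, sum_signed hZ, Finset.sum_const,
    Finset.card_univ, nsmul_eq_mul, mul_one, ← Nat.card_eq_fintype_card, hYt, hZt, hy, hZ1,
    d.card_eq] at hsum
  rw [hZ1] at hZ0
  have hn := d.invols_card_eq
  have hyC : (y : ℂ) ≠ 0 := by exact_mod_cast hy0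
  have hh : (Nat.card P : ℂ) ≠ 0 := by exact_mod_cast (Nat.card_pos (α := P)).ne'
  have hnC : ((invols G).card : ℂ) = 4 * (Nat.card P : ℂ) ^ 2 - 2 * Nat.card P + 1 := by
    exact_mod_cast hn
  obtain ⟨k, hk⟩ := P.isPGroup'.exists_card_eq
  refine false_of_square hk h9 y ?_
  push_cast at hsum
  rw [hnC] at hsum
  field_simp at hsum
  have hkey : (4 * (Nat.card P : ℂ) ^ 2 - 2 * Nat.card P + 1) * ((y : ℂ) - 1) ^ 2 =
      8 * (Nat.card P : ℂ) ^ 2 * y * (y + 1) := by
    linear_combination (-(1 : ℂ) / 4) * hsum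
  exact_mod_cast hkey

theorem false_of_three (h3 : Nat.card P = 3) : False := by
  have hn := d.invols_card_eq
  rw [h3] at hn
  norm_num at hn
  have hG : Nat.card G = 372 := by
    rw [d.card_eq, h3, show (invols G).card = 31 by omega]
  haveI : Fact (Nat.Prime 31) := ⟨by norm_num⟩
  obtain ⟨S⟩ : Nonempty (Sylow 31 G) := inferInstance
  have hS : Nat.card (S : Subgroup G) = 31 := by
    have h1 := S.pow_dvd_card_of_pow_dvd_card (n := 1) (by rw [hG]; norm_num)
    obtain ⟨k, hk⟩ := S.isPGroup'.exists_card_eq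
    have h2 := (S : Subgroup G).card_subgroup_dvd_card
    rw [hk, hG] at h2
    rw [hk] at h1 ⊢
    rcases k with _ | _ | k
    · norm_num at h1
    · norm_num
    · exfalso
      have : 31 ^ 2 ∣ 372 := (pow_dvd_pow 31 (by omega)).trans h2
      norm_num at this
  have hidx : (S : Subgroup G).index = 12 := by
    have := (S : Subgroup G).card_mul_index
    rw [hS, hG] at this
    omega
  have hcard : Nat.card (Sylow 31 G) = 1 := by
    have h1 := S.card_dvd_index
    have h2 := card_sylow_modEq_one 31 G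
    rw [hidx] at h1
    have h3 := Nat.le_of_dvd (by norm_num) h1
    rw [Nat.ModEq] at h2
    omega
  haveI : Subsingleton (Sylow 31 G) := (Nat.card_eq_one_iff_unique.1 hcard).1
  refine d.false_of_normal (S.normal_of_subsingleton) (fun e => ?_) (fun e => ?_)
  · rw [e, Subgroup.card_bot] at hS
    omega
  · rw [e, Subgroup.card_top, hG] at hS
    omega

theorem contradiction_of : False := by
  haveI : Fact (Nat.Prime 3) := ⟨by norm_num⟩
  obtain ⟨k, hk⟩ := P.isPGroup'.exists_card_eq
  rcases k with _ | _ | k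
  · rw [pow_zero] at hk
    have hbot : (P : Subgroup G) = ⊥ := Subgroup.card_eq_one.1 hk
    have hC : CP = ⊤ := by
      refine eq_top_iff.2 fun x _ => Subgroup.mem_centralizer_iff.2 fun p hp => ?_
      rw [SetLike.mem_coe] at hp
      rw [(Subgroup.mem_bot.1 (hbot ▸ hp : p ∈ (⊥ : Subgroup G))), one_mul, mul_one]
    have h1 := d.card_centralizer
    have h2 := d.card_normalizer
    rw [hC, Subgroup.card_top, hk] at h1
    have h3 := (NP).card_subgroup_dvd_card
    rw [h2, hk, h1] at h3
    norm_num at h3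
  · exact d.false_of_three (by rw [hk]; norm_num)
  · refine d.false_of_nine ?_
    rw [hk]
    calc 9 = 3 ^ 2 := by norm_num
      _ ≤ 3 ^ (k + 1 + 1) := Nat.pow_le_pow_right (by norm_num) (by omega)

end SmallCent

end CfsgLib.Involutions
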